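import Cfsg.Agent.Lib.NormalAbelian

/-!
# The local part of helper768's #19499 ((1), (*)) for `V = E^k` (helper861 #19901, helper554 #20057)

`S` a 2-group, `V` an abelian 2-group normalised by `S`, `V = E^ι` as an `S`-module, `|ι| ≥ 2`, no fields, no blocks.

* `Pow S V E p` : `V = E^ι`, `p j` the `j`-th coordinate, `S`-equivariant;
* `Pow.index_cent` : `|V : C_V(B)| = |E : C_E(B)|^k` for `B ≤ S`;
* `LL T v = [v, T]`, `NN V B L = {x ∈ V | [x, B] ≤ L}`;
* `Good V T lam T₀` : `C_V(T) ≤ lam`, `[lam, T] ≤ C_V(T)`, `C_T(v) = T₀` for all `v ∈ lam - C_V(T)`,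
  `4 ≤ |lam : C_V(T)|`, the intersection of all `[v, T]`, `v ∈ lam - C_V(T)`, is trivial;
* `Pow.exists_good` : if `T ≤ S` does not centralise `V`, such `lam`, `T₀` exist;
* `Pow.loc` : `|E : C_E(B)|^(k-1) ≤ |V : NN V B (LL T v)|` for all `v ∈ lam - C_V(T)`, `B ≤ T`;
  `Pow.eq` : equality implies `[V, B] ≤ C_V(T)`; `Pow.comm_le` : `[V, B] ≤ [v, T]` implies `[V, B] = 1`.
-/

set_option autoImplicit false

namespace Cfsg.Agent.Omega.NO3b.ClosedPow

open Subgroup Cfsg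

universe u v

variable {G : Type u} [Group G]

/-- the commutator `[t, v]` -/
def cm (t v : G) : G := t * v * t⁻¹ * v⁻¹

theorem cm_one_right (t : G) : cm t 1 = 1 := by unfold cm; group

theorem cm_one_left (v : G) : cm 1 v = 1 := by unfold cm; group

theorem cm_eq_one {t v : G} : cm t v = 1 ↔ t * v = v * t := by
  unfold cm; rw [mul_inv_eq_one, mul_inv_eq_iff_eq_mul]

theorem le_norm_of {H S : Subgroup G} (hS : ∀ x ∈ S, ∀ y ∈ H, x * y * x⁻¹ ∈ H) : S ≤ normalizer (H : Set G) := by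
  intro x hx
  rw [mem_normalizer_iff]
  intro y
  refine ⟨hS x hx y, fun hy => ?_⟩
  have := hS x⁻¹ (inv_mem hx) _ hy
  simpa [mul_assoc] using this

theorem conj_mem {A B : Subgroup G} (h : A ≤ normalizer (B : Set G)) {a b : G} (ha : a ∈ A) (hb : b ∈ B) :
    a * b * a⁻¹ ∈ B := (mem_normalizer_iff.1 (h ha) b).1 hb

theorem cm_mem {A B : Subgroup G} (h : A ≤ normalizer (B : Set G)) {a b : G} (ha : a ∈ A) (hb : b ∈ B) :
    cm a b ∈ B := mul_mem (conj_mem h ha hb) (inv_mem hb)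

/-- a nontrivial section `B / A` has a nontrivial fixed point under a 2-group -/
theorem exists_fixed_mod [Finite G] {S B A : Subgroup G} (hS : IsPGroup 2 S) (hB2 : IsPGroup 2 B)
    (hBn : ∀ x ∈ S, ∀ b ∈ B, x * b * x⁻¹ ∈ B) (hAn : ∀ x ∈ S, ∀ b ∈ A, x * b * x⁻¹ ∈ A)
    (hAB : ∀ x ∈ B, ∀ b ∈ A, x * b * x⁻¹ ∈ A) (hne : ¬ B ≤ A) :
    ∃ m ∈ B, m ∉ A ∧ ∀ t ∈ S, cm t m ∈ A := by
  have : Fact (Nat.Prime 2) := ⟨Nat.prime_two⟩
  set T : Subgroup G := S ⊔ B with hTdef
  have hSB : S ≤ normalizer (B : Set G) := le_norm_of hBn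
  have hT : IsPGroup 2 T := IsPGroup.to_sup_of_normal_right' hS hB2 hSB
  have hBT : B ≤ T := le_sup_right
  have hB : T ≤ normalizer (B : Set G) := sup_le hSB le_normalizer
  have hA : T ≤ normalizer (A : Set G) := sup_le (le_norm_of hAn) (le_norm_of hAB)
  have hnA : (A.subgroupOf T).Normal := normal_subgroupOf_of_le_normalizer hA
  have hnB : (B.subgroupOf T).Normal := normal_subgroupOf_of_le_normalizer hB
  have hp : IsPGroup 2 (T ⧸ A.subgroupOf T) := hT.to_quotient _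
  have : Group.IsNilpotent (T ⧸ A.subgroupOf T) := hp.isNilpotent
  let K : Subgroup (T ⧸ A.subgroupOf T) := (B.subgroupOf T).map (QuotientGroup.mk' (A.subgroupOf T))
  have hK : K.Normal := hnB.map _ (QuotientGroup.mk'_surjective _)
  have hK1 : K ≠ ⊥ := by
    intro h
    apply hne
    intro x hx
    have h1 : QuotientGroup.mk' (A.subgroupOf T) ⟨x, hBT hx⟩ ∈ K := ⟨⟨x, hBT hx⟩, hx, rfl⟩
    rw [h, mem_bot] at h1
    exact (QuotientGroup.eq_one_iff (⟨x, hBT hx⟩ : T)).1 h1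
  have h2 := Lib.NormalAbelian.normal_inf_center_ne_bot K hK1
  obtain ⟨⟨y, hy⟩, hy1⟩ := Subgroup.ne_bot_iff_exists_ne_one.1 h2
  obtain ⟨⟨m, hm, rfl⟩, hyc⟩ := mem_inf.1 hy
  refine ⟨m, hm, fun h => hy1 ?_, fun t ht => ?_⟩
  · apply Subtype.ext
    exact (QuotientGroup.eq_one_iff m).2 h
  · have ht' : t ∈ T := (le_sup_left : S ≤ T) ht
    have h3 := mem_center_iff.1 hyc (QuotientGroup.mk' _ ⟨t, ht'⟩)
    have h4 : ((⟨t, ht'⟩ * m * ⟨t, ht'⟩⁻¹ * m⁻¹ : T) : T ⧸ A.subgroupOf T) = 1 := by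
      change QuotientGroup.mk' (A.subgroupOf T) (⟨t, ht'⟩ * m * ⟨t, ht'⟩⁻¹ * m⁻¹) = 1
      rw [map_mul, map_mul, map_mul, map_inv, map_inv, h3]
      group
    have h5 := (QuotientGroup.eq_one_iff (N := A.subgroupOf T) _).1 h4
    exact h5

/-! ### `[v, T]` and `{x ∈ V | [x, B] ≤ L}` -/

/-- `[v, T]` -/
def LL (T : Subgroup G) (v : G) : Subgroup G := closure {x | ∃ t ∈ T, cm t v = x}

theorem mem_LL {T : Subgroup G} {v : G} (hv : ∀ t ∈ T, cm t v ∈ centralizer (T : Set G)) {x : G} :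
    x ∈ LL T v ↔ ∃ t ∈ T, cm t v = x := by
  refine ⟨fun hx => ?_, fun hx => subset_closure hx⟩
  refine closure_induction (p := fun x _ => ∃ t ∈ T, cm t v = x) (fun x hx => hx) ⟨1, one_mem _, cm_one_left v⟩
    ?_ ?_ hx
  · rintro x y - - ⟨s, hs, rfl⟩ ⟨t, ht, rfl⟩
    refine ⟨t * s, mul_mem ht hs, ?_⟩
    have h1 := mem_centralizer_iff.1 (hv s hs) t ht
    have e : cm (t * s) v = t * cm s v * t⁻¹ * cm t v := by unfold cm; group
    rw [e, h1, mul_inv_cancel_right]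
  · rintro x - ⟨s, hs, rfl⟩
    refine ⟨s⁻¹, inv_mem hs, ?_⟩
    have h1 := mem_centralizer_iff.1 (inv_mem (hv s hs)) s⁻¹ (inv_mem hs)
    have e : cm s⁻¹ v = s⁻¹ * (cm s v)⁻¹ * s := by unfold cm; group
    rw [e, h1, inv_mul_cancel_right]

/-- `{x ∈ V | [x, B] ≤ L}` -/
def NN (V B L : Subgroup G) : Subgroup G := closure {x | x ∈ V ∧ ∀ b ∈ B, cm b x ∈ L}

section NN

variable {V B L : Subgroup G} (hV : V ≤ centralizer (V : Set G)) (hB : B ≤ normalizer (V : Set G))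
include hV hB

theorem cm_mul {b x y : G} (hb : b ∈ B) (hx : x ∈ V) (hy : y ∈ V) : cm b (x * y) = cm b x * cm b y := by
  have h1 := mem_centralizer_iff.1 (hV hx) _ (cm_mem hB hb hy)
  have e : cm b (x * y) = cm b x * (x * cm b y * x⁻¹) := by unfold cm; group
  rw [e, ← h1, mul_inv_cancel_right]

theorem cm_inv {b x : G} (hb : b ∈ B) (hx : x ∈ V) : cm b x⁻¹ = (cm b x)⁻¹ := by
  have h1 := cm_mul hV hB hb hx (inv_mem hx)
  rw [mul_inv_cancel, cm_one_right] at h1
  exact eq_inv_of_mul_eq_one_right h1.symm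

theorem mem_NN {x : G} : x ∈ NN V B L ↔ x ∈ V ∧ ∀ b ∈ B, cm b x ∈ L := by
  refine ⟨fun hx => ?_, fun hx => subset_closure hx⟩
  refine closure_induction (p := fun x _ => x ∈ V ∧ ∀ b ∈ B, cm b x ∈ L) (fun x hx => hx)
    ⟨one_mem _, fun b _ => by rw [cm_one_right]; exact one_mem _⟩ ?_ ?_ hx
  · rintro x y - - ⟨hx, hx'⟩ ⟨hy, hy'⟩
    exact ⟨mul_mem hx hy, fun b hb => by rw [cm_mul hV hB hb hx hy]; exact mul_mem (hx' b hb) (hy' b hb)⟩
  · rintro x - ⟨hx, hx'⟩
    exact ⟨inv_mem hx, fun b hb => by rw [cm_inv hV hB hb hx]; exact inv_mem (hx' b hb)⟩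

theorem NN_le : NN V B L ≤ V := fun _ hx => ((mem_NN hV hB).1 hx).1

end NN

/-! ### `V = E^ι` -/

/-- `V = E^ι` as an `S`-module, `p j` is the `j`-th coordinate. -/
structure Pow {ι : Type v} (S V E : Subgroup G) (p : ι → G → G) : Prop where
  nV : S ≤ normalizer (V : Set G)
  nE : S ≤ normalizer (E : Set G)
  cV : V ≤ centralizer (V : Set G)
  mem : ∀ j, ∀ v ∈ V, p j v ∈ E
  mul : ∀ j, ∀ v ∈ V, ∀ w ∈ V, p j (v * w) = p j v * p j w
  inj : ∀ v ∈ V, (∀ j, p j v = 1) → v = 1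
  surj : ∀ f : ι → G, (∀ j, f j ∈ E) → ∃ v ∈ V, ∀ j, p j v = f j
  equi : ∀ j, ∀ s ∈ S, ∀ v ∈ V, p j (s * v * s⁻¹) = s * p j v * s⁻¹

/-- The good elements for `T`. -/
structure Good (V T lam T₀ : Subgroup G) : Prop where
  le : V ⊓ centralizer (T : Set G) ≤ lam
  leV : lam ≤ V
  T₀_le : T₀ ≤ T
  cent : ∀ v ∈ lam, v ∈ centralizer (T₀ : Set G)
  fix : ∀ v ∈ lam, ∀ t ∈ T, cm t v ∈ centralizer (T : Set G)
  all : ∀ v ∈ V, v ∈ centralizer (T₀ : Set G) → (∀ t ∈ T, cm t v ∈ centralizer (T : Set G)) → v ∈ lam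
  stab : ∀ v ∈ lam, v ∉ centralizer (T : Set G) → ∀ t ∈ T, t * v = v * t → t ∈ T₀
  four : 4 ≤ (V ⊓ centralizer (T : Set G)).relIndex lam
  inter : ∀ x, (∀ v ∈ lam, v ∉ centralizer (T : Set G) → ∃ t ∈ T, cm t v = x) → x = 1

namespace Good

variable {V T lam T₀ : Subgroup G} (g : Good V T lam T₀)
include g

theorem exists_mem : ∃ v ∈ lam, v ∉ centralizer (T : Set G) := by
  by_contra hcon
  push Not at hcon
  have h1 : (V ⊓ centralizer (T : Set G)).relIndex lam = 1 :=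
    relIndex_eq_one.2 fun v hv => ⟨g.leV hv, hcon v hv⟩
  have h2 := g.four
  omega

theorem mem_T₀ {v : G} (hv : v ∈ lam) (hvT : v ∉ centralizer (T : Set G)) {t : G} (ht : t ∈ T) :
    t ∈ T₀ ↔ t * v = v * t :=
  ⟨fun h1 => mem_centralizer_iff.1 (g.cent v hv) t h1, fun h1 => g.stab v hv hvT t ht h1⟩

theorem T₀_eq {v : G} (hv : v ∈ lam) (hvT : v ∉ centralizer (T : Set G)) :
    T₀ = T ⊓ centralizer ({v} : Set G) := by
  ext t
  constructor
  · intro h1
    exact ⟨g.T₀_le h1, mem_centralizer_singleton_iff.2 ((g.mem_T₀ hv hvT (g.T₀_le h1)).1 h1)⟩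
  · rintro ⟨h1, h2⟩
    exact (g.mem_T₀ hv hvT h1).2 (mem_centralizer_singleton_iff.1 h2)

/-- `T₀` is normal in `T` -/
theorem norm : T ≤ normalizer (T₀ : Set G) := by
  obtain ⟨v, hv, hvT⟩ := g.exists_mem
  refine le_norm_of fun s hs t ht => ?_
  have hst : s * t * s⁻¹ ∈ T := mul_mem (mul_mem hs (g.T₀_le ht)) (inv_mem hs)
  rw [g.mem_T₀ hv hvT hst]
  have h1 := mem_centralizer_iff.1 (g.fix v hv s⁻¹ (inv_mem hs)) t (g.T₀_le ht)
  have h2 := (g.mem_T₀ hv hvT (g.T₀_le ht)).1 ht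
  -- `s⁻¹ v s = c v`, `c` and `v` are centralised by `t`
  have e1 : s * t * s⁻¹ * v = s * (t * cm s⁻¹ v) * v * s⁻¹ := by unfold cm; group
  have e2 : v * (s * t * s⁻¹) = s * (cm s⁻¹ v * (v * t)) * s⁻¹ := by unfold cm; group
  rw [e1, h1, e2, ← h2]
  group

/-- `T₀ = C_T(C_V(T₀))` -/
theorem T₀_eq' : T₀ = T ⊓ centralizer ((V ⊓ centralizer (T₀ : Set G) : Subgroup G) : Set G) := by
  obtain ⟨v, hv, hvT⟩ := g.exists_mem
  refine le_antisymm (le_inf g.T₀_le ?_) ?_
  · intro t ht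
    rw [mem_centralizer_iff]
    exact fun x hx => (mem_centralizer_iff.1 hx.2 t ht).symm
  · rintro t ⟨ht, htc⟩
    exact g.stab v hv hvT t ht (mem_centralizer_iff.1 htc v ⟨g.leV hv, g.cent v hv⟩).symm

end Good

namespace Pow

variable {ι : Type v} {S V E : Subgroup G} {p : ι → G → G} (h : Pow S V E p)
include h

theorem one (j : ι) : p j 1 = 1 := by
  have h1 := h.mul j 1 (one_mem _) 1 (one_mem _)
  rw [one_mul] at h1
  exact (left_eq_mul.1 h1)

theorem inv (j : ι) {v : G} (hv : v ∈ V) : p j v⁻¹ = (p j v)⁻¹ := by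
  have h1 := h.mul j v hv v⁻¹ (inv_mem hv)
  rw [mul_inv_cancel, h.one] at h1
  exact eq_inv_of_mul_eq_one_right h1.symm

theorem p_cm (j : ι) {s v : G} (hs : s ∈ S) (hv : v ∈ V) : p j (cm s v) = cm s (p j v) := by
  unfold cm
  rw [h.mul j _ (conj_mem h.nV hs hv) _ (inv_mem hv), h.equi j s hs v hv, h.inv j hv]

theorem ext {v w : G} (hv : v ∈ V) (hw : w ∈ V) (hvw : ∀ j, p j v = p j w) : v = w := by
  rw [← mul_inv_eq_one]
  refine h.inj _ (mul_mem hv (inv_mem hw)) fun j => ?_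
  rw [h.mul j v hv _ (inv_mem hw), h.inv j hw, hvw j, mul_inv_cancel]

theorem comm_iff {s v : G} (hs : s ∈ S) (hv : v ∈ V) : s * v = v * s ↔ ∀ j, s * p j v = p j v * s := by
  rw [← cm_eq_one]
  constructor
  · intro h1 j
    rw [← cm_eq_one, ← h.p_cm j hs hv, h1, h.one]
  · intro h1
    refine h.inj _ (cm_mem h.nV hs hv) fun j => ?_
    rw [h.p_cm j hs hv, cm_eq_one.2 (h1 j)]

theorem mem_cent {B : Subgroup G} (hB : B ≤ S) {v : G} (hv : v ∈ V) :
    v ∈ centralizer (B : Set G) ↔ ∀ j, p j v ∈ centralizer (B : Set G) := by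
  constructor
  · intro h1 j
    rw [mem_centralizer_iff]
    exact fun b hb => (h.comm_iff (hB hb) hv).1 (mem_centralizer_iff.1 h1 b hb) j
  · intro h1
    rw [mem_centralizer_iff]
    exact fun b hb => (h.comm_iff (hB hb) hv).2 fun j => mem_centralizer_iff.1 (h1 j) b hb

/-- the element with `j`-th coordinate `e` and all other coordinates `1` -/
theorem exists_single [DecidableEq ι] (j : ι) {e : G} (he : e ∈ E) :
    ∃ v ∈ V, p j v = e ∧ ∀ i, i ≠ j → p i v = 1 := by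
  obtain ⟨v, hv, h1⟩ := h.surj (fun i => if i = j then e else 1) (fun i => by
    by_cases hi : i = j
    · simp only [hi, if_true]; exact he
    · simp only [hi, if_false]; exact one_mem _)
  refine ⟨v, hv, by rw [h1, if_pos rfl], fun i hi => by rw [h1, if_neg hi]⟩

theorem cE [Nonempty ι] : E ≤ centralizer (E : Set G) := by
  intro e he
  rw [mem_centralizer_iff]
  intro f hf
  obtain ⟨j⟩ := (inferInstance : Nonempty ι)
  obtain ⟨v, hv, h1⟩ := h.surj (fun _ => e) fun _ => he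
  obtain ⟨w, hw, h2⟩ := h.surj (fun _ => f) fun _ => hf
  rw [← h1 j, ← h2 j, ← h.mul j _ hw _ hv, ← h.mul j _ hv _ hw, mem_centralizer_iff.1 (h.cV hv) w hw]

section Card

variable [Finite ι]

theorem card_of {K K' : Subgroup G} (hK : K ≤ E) (hK' : ∀ v, v ∈ K' ↔ v ∈ V ∧ ∀ j, p j v ∈ K) :
    Nat.card K' = Nat.card K ^ Nat.card ι := by
  have h1 : Function.Bijective (fun (v : K') (j : ι) => (⟨p j v, ((hK' v).1 v.2).2 j⟩ : K)) := by
    constructor
    · intro v w hvw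
      apply Subtype.ext
      refine h.ext ((hK' v).1 v.2).1 ((hK' w).1 w.2).1 fun j => ?_
      exact congrArg Subtype.val (congrFun hvw j)
    · intro f
      obtain ⟨v, hv, h1⟩ := h.surj (fun j => (f j : G)) fun j => hK (f j).2
      refine ⟨⟨v, (hK' v).2 ⟨hv, fun j => by rw [h1]; exact (f j).2⟩⟩, ?_⟩
      funext j
      exact Subtype.ext (h1 j)
  rw [Nat.card_congr (Equiv.ofBijective _ h1), Nat.card_fun]

theorem relIndex_of [Finite G] {K L K' L' : Subgroup G} (hL : L ≤ E) (hKL : K ≤ L)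
    (hK' : ∀ v, v ∈ K' ↔ v ∈ V ∧ ∀ j, p j v ∈ K) (hL' : ∀ v, v ∈ L' ↔ v ∈ V ∧ ∀ j, p j v ∈ L) :
    K'.relIndex L' = K.relIndex L ^ Nat.card ι := by
  have h1 := h.card_of (hKL.trans hL) hK'
  have h2 := h.card_of hL hL'
  have hKL' : K' ≤ L' := fun v hv => (hL' v).2 ⟨((hK' v).1 hv).1, fun j => hKL (((hK' v).1 hv).2 j)⟩
  have h3 := relIndex_mul_relIndex ⊥ K L bot_le hKL
  have h4 := relIndex_mul_relIndex ⊥ K' L' bot_le hKL'
  rw [relIndex_bot_left, relIndex_bot_left] at h3 h4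
  rw [h1, h2, ← h3, mul_pow] at h4
  exact Nat.eq_of_mul_eq_mul_left (pow_pos Nat.card_pos _) h4

/-- **`|V : C_V(B)| = |E : C_E(B)|^k`** -/
theorem index_cent [Finite G] {B : Subgroup G} (hB : B ≤ S) :
    (centralizer (B : Set G)).relIndex V = (centralizer (B : Set G)).relIndex E ^ Nat.card ι := by
  rw [← inf_relIndex_right, ← inf_relIndex_right (centralizer (B : Set G)) E]
  refine h.relIndex_of le_rfl inf_le_right (fun v => ?_) fun v => ?_
  · constructor
    · rintro ⟨h1, h2⟩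
      exact ⟨h2, fun j => ⟨(h.mem_cent hB h2).1 h1 j, h.mem j v h2⟩⟩
    · rintro ⟨h1, h2⟩
      exact ⟨(h.mem_cent hB h1).2 fun j => (h2 j).1, h1⟩
  · exact ⟨fun h1 => ⟨h1, fun j => h.mem j v h1⟩, fun h1 => h1.1⟩

end Card

section GoodOf

variable [Finite G] [Finite ι] {T : Subgroup G} (hT : T ≤ S) (hk : 2 ≤ Nat.card ι)
include hT hk

/-- **Good elements exist.** -/
theorem exists_good (h2 : IsPGroup 2 T) (hV2 : IsPGroup 2 V) (hne : ¬ V ≤ centralizer (T : Set G)) :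
    ∃ lam T₀, Good V T lam T₀ := by
  classical
  have hι : Nontrivial ι := (Finite.one_lt_card_iff_nontrivial).1 (by omega)
  have hTV : T ≤ normalizer (V : Set G) := hT.trans h.nV
  have hTC : ∀ t ∈ T, ∀ x ∈ centralizer (T : Set G), t * x * t⁻¹ ∈ centralizer (T : Set G) := by
    intro t ht x hx
    rw [mem_centralizer_iff.1 hx t ht, mul_inv_cancel_right]
    exact hx
  -- `X`
  let X : Set G := {v | v ∈ V ∧ v ∉ centralizer (T : Set G) ∧ ∀ t ∈ T, cm t v ∈ centralizer (T : Set G)}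
  have hX : X.Nonempty := by
    obtain ⟨m, hm, hm1, hm2⟩ := exists_fixed_mod (A := V ⊓ centralizer (T : Set G)) h2 hV2
      (fun x hx b hb => conj_mem hTV hx hb)
      (fun x hx b hb => ⟨conj_mem hTV hx hb.1, hTC x hx b hb.2⟩)
      (fun x hx b hb => by
        have e : x * b * x⁻¹ = b := by
          rw [mem_centralizer_iff.1 (h.cV hb.1) x hx, mul_inv_cancel_right]
        rw [e]; exact hb)
      (fun h0 => hne (h0.trans inf_le_right))
    exact ⟨m, hm, fun h0 => hm1 ⟨hm, h0⟩, fun t ht => (hm2 t ht).2⟩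
  obtain ⟨v, ⟨hv, hvT, hvc⟩, hmax⟩ := Set.exists_max_image X
    (fun v => Nat.card (T ⊓ centralizer ({v} : Set G) : Subgroup G)) (Set.toFinite _) hX
  set T₀ : Subgroup G := T ⊓ centralizer ({v} : Set G) with hT₀
  have hT₀T : T₀ ≤ T := inf_le_left
  set lam : Subgroup G := V ⊓ centralizer (T₀ : Set G) ⊓ NN V T (centralizer (T : Set G)) with hlam
  have mem_lam : ∀ w, w ∈ lam ↔ w ∈ V ∧ w ∈ centralizer (T₀ : Set G) ∧
      ∀ t ∈ T, cm t w ∈ centralizer (T : Set G) := by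
    intro w
    rw [hlam, mem_inf, mem_inf, mem_NN h.cV hTV]
    tauto
  have hstab : ∀ w ∈ lam, w ∉ centralizer (T : Set G) → ∀ t ∈ T, t * w = w * t → t ∈ T₀ := by
    intro w hw hwT t ht htw
    rw [mem_lam] at hw
    have h1 := hmax w ⟨hw.1, hwT, hw.2.2⟩
    have h3 : T₀ ≤ T ⊓ centralizer ({w} : Set G) := by
      intro x hx
      exact ⟨hT₀T hx, mem_centralizer_singleton_iff.2 (mem_centralizer_iff.1 hw.2.1 x hx)⟩
    have h4 : T₀ = T ⊓ centralizer ({w} : Set G) := eq_of_le_of_card_ge h3 h1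
    rw [h4]
    exact ⟨ht, mem_centralizer_singleton_iff.2 htw⟩
  have hvl : v ∈ lam := (mem_lam v).2 ⟨hv, mem_centralizer_iff.2 fun t ht =>
    mem_centralizer_singleton_iff.1 ht.2, hvc⟩
  -- the `E`-side
  have hTE : T ≤ normalizer (E : Set G) := hT.trans h.nE
  have hcE := h.cE
  set lE : Subgroup G := E ⊓ centralizer (T₀ : Set G) ⊓ NN E T (centralizer (T : Set G)) with hlE
  have mem_lE : ∀ w, w ∈ lE ↔ w ∈ E ∧ w ∈ centralizer (T₀ : Set G) ∧
      ∀ t ∈ T, cm t w ∈ centralizer (T : Set G) := by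
    intro w
    rw [hlE, mem_inf, mem_inf, mem_NN hcE hTE]
    tauto
  have hlam_iff : ∀ w, w ∈ lam ↔ w ∈ V ∧ ∀ j, p j w ∈ lE := by
    intro w
    rw [mem_lam]
    constructor
    · rintro ⟨h1, h2, h3⟩
      refine ⟨h1, fun j => (mem_lE _).2 ⟨h.mem j w h1, (h.mem_cent (hT₀T.trans hT) h1).1 h2 j, fun t ht => ?_⟩⟩
      rw [← h.p_cm j (hT ht) h1]
      exact (h.mem_cent hT (cm_mem hTV ht h1)).1 (h3 t ht) j
    · rintro ⟨h1, h2⟩
      refine ⟨h1, (h.mem_cent (hT₀T.trans hT) h1).2 fun j => ((mem_lE _).1 (h2 j)).2.1, fun t ht => ?_⟩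
      refine (h.mem_cent hT (cm_mem hTV ht h1)).2 fun j => ?_
      rw [h.p_cm j (hT ht) h1]
      exact ((mem_lE _).1 (h2 j)).2.2 t ht
  have hDl : V ⊓ centralizer (T : Set G) ≤ lam := by
    rintro w ⟨h1, h3⟩
    refine (mem_lam w).2 ⟨h1, centralizer_le hT₀T h3, fun t ht => ?_⟩
    have e : cm t w = 1 := cm_eq_one.2 (mem_centralizer_iff.1 h3 t ht)
    rw [e]; exact one_mem _
  -- a coordinate of `v` outside `C_E(T)`
  obtain ⟨j₀, hj₀⟩ : ∃ j, p j v ∉ centralizer (T : Set G) := by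
    by_contra hcon
    push Not at hcon
    exact hvT ((h.mem_cent hT hv).2 hcon)
  have hev : p j₀ v ∈ lE := ((hlam_iff v).1 hvl).2 j₀
  refine ⟨lam, T₀, { le := hDl, leV := fun w hw => ((mem_lam w).1 hw).1, T₀_le := hT₀T,
                     cent := fun w hw => ((mem_lam w).1 hw).2.1, fix := fun w hw => ((mem_lam w).1 hw).2.2,
                     all := fun w h1 h3 h4 => (mem_lam w).2 ⟨h1, h3, h4⟩, stab := hstab,
                     four := ?_, inter := ?_ }⟩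
  · -- `|lam : D| = |lam_E : D_E|^k`
    have h3 : (V ⊓ centralizer (T : Set G)).relIndex lam = (E ⊓ centralizer (T : Set G)).relIndex lE ^ Nat.card ι := by
      refine h.relIndex_of (fun w hw => ((mem_lE w).1 hw).1) ?_ (fun w => ?_) hlam_iff
      · rintro w ⟨h1, h3⟩
        refine (mem_lE w).2 ⟨h1, centralizer_le hT₀T h3, fun t ht => ?_⟩
        have e : cm t w = 1 := cm_eq_one.2 (mem_centralizer_iff.1 h3 t ht)
        rw [e]; exact one_mem _
      · constructor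
        · rintro ⟨h1, h3⟩
          exact ⟨h1, fun j => ⟨h.mem j w h1, (h.mem_cent hT h1).1 h3 j⟩⟩
        · rintro ⟨h1, h3⟩
          exact ⟨h1, (h.mem_cent hT h1).2 fun j => (h3 j).2⟩
    have h4 : 2 ≤ (E ⊓ centralizer (T : Set G)).relIndex lE := by
      have h5 : (E ⊓ centralizer (T : Set G)).relIndex lE ≠ 0 := index_ne_zero_of_finite
      have h6 : (E ⊓ centralizer (T : Set G)).relIndex lE ≠ 1 := by
        intro h7
        exact hj₀ ((relIndex_eq_one.1 h7) hev).2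
      omega
    rw [h3]
    calc 4 = 2 ^ 2 := by norm_num
      _ ≤ 2 ^ Nat.card ι := Nat.pow_le_pow_right (by norm_num) hk
      _ ≤ _ := Nat.pow_le_pow_left h4 _
  · -- the intersection
    intro x hx
    have key : ∀ j, x ∈ V ∧ ∀ i, i ≠ j → p i x = 1 := by
      intro j
      obtain ⟨w, hw, hwj, hwi⟩ := h.exists_single j ((mem_lE _).1 hev).1
      have hwl : w ∈ lam := (hlam_iff w).2 ⟨hw, fun i => by
        by_cases hi : i = j
        · rw [hi, hwj]; exact hev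
        · rw [hwi i hi]; exact one_mem _⟩
      have hwT : w ∉ centralizer (T : Set G) := by
        intro h0
        apply hj₀
        rw [← hwj]
        exact (h.mem_cent hT hw).1 h0 j
      obtain ⟨t, ht, rfl⟩ := hx w hwl hwT
      refine ⟨cm_mem hTV ht hw, fun i hi => ?_⟩
      rw [h.p_cm i (hT ht) hw, hwi i hi, cm_one_right]
    obtain ⟨a, b, hab⟩ := exists_pair_ne ι
    refine h.inj x (key a).1 fun i => ?_
    by_cases hi : i = a
    · exact (key b).2 i (by rw [hi]; exact hab)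
    · exact (key a).2 i hi

end GoodOf

section Loc

variable [Finite G] {T lam T₀ B : Subgroup G} (hT : T ≤ S) (g : Good V T lam T₀) (hB : B ≤ T)
include hT g hB

omit [Finite G] in
/-- the embedding `NN V B [v, T] / C_V(B) → E / C_E(B)` -/
theorem loc_aux [DecidableEq ι] {v : G} (hv : v ∈ lam) (hvT : v ∉ centralizer (T : Set G)) :
    ∃ j, p j v ∉ centralizer (T : Set G) ∧ ∀ x ∈ NN V B (LL T v), p j x ∈ centralizer (B : Set G) →
      x ∈ centralizer (B : Set G) := by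
  have hvV := g.leV hv
  have hBV : B ≤ normalizer (V : Set G) := (hB.trans hT).trans h.nV
  obtain ⟨j, hj⟩ : ∃ j, p j v ∉ centralizer (T : Set G) := by
    by_contra hcon
    push Not at hcon
    exact hvT ((h.mem_cent hT hvV).2 hcon)
  refine ⟨j, hj, fun x hx hxj => ?_⟩
  obtain ⟨w, hw, hwj, hwi⟩ := h.exists_single j (h.mem j v hvV)
  have hwl : w ∈ lam := by
    refine g.all w hw ((h.mem_cent (g.T₀_le.trans hT) hw).2 fun i => ?_) fun t ht => ?_
    · by_cases hi : i = j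
      · rw [hi, hwj]
        exact (h.mem_cent (g.T₀_le.trans hT) hvV).1 (g.cent v hv) j
      · rw [hwi i hi]; exact one_mem _
    · refine (h.mem_cent hT (cm_mem (hT.trans h.nV) ht hw)).2 fun i => ?_
      rw [h.p_cm i (hT ht) hw]
      by_cases hi : i = j
      · rw [hi, hwj, ← h.p_cm j (hT ht) hvV]
        exact (h.mem_cent hT (cm_mem (hT.trans h.nV) ht hvV)).1 (g.fix v hv t ht) j
      · rw [hwi i hi, cm_one_right]; exact one_mem _
  have hwT : w ∉ centralizer (T : Set G) := by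
    intro h0
    apply hj
    rw [← hwj]
    exact (h.mem_cent hT hw).1 h0 j
  have hx' := (mem_NN h.cV hBV).1 hx
  rw [mem_centralizer_iff]
  intro b hb
  obtain ⟨t, ht, htb⟩ := (mem_LL (g.fix v hv)).1 (hx'.2 b hb)
  have h1 : cm t (p j v) = 1 := by
    rw [← h.p_cm j (hT ht) hvV, htb, h.p_cm j (hT (hB hb)) hx'.1, cm_eq_one]
    exact mem_centralizer_iff.1 hxj b hb
  have h2 : t ∈ T₀ := by
    refine g.stab w hwl hwT t ht ((h.comm_iff (hT ht) hw).2 fun i => ?_)
    by_cases hi : i = j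
    · rw [hi, hwj]; exact cm_eq_one.1 h1
    · rw [hwi i hi, mul_one, one_mul]
  have h3 : cm t v = 1 := cm_eq_one.2 (mem_centralizer_iff.1 (g.cent v hv) t h2)
  rw [← cm_eq_one, ← htb, h3]

omit [Finite G] g in
theorem cent_le_NN {v : G} : V ⊓ centralizer (B : Set G) ≤ NN V B (LL T v) := by
  have hBV : B ≤ normalizer (V : Set G) := (hB.trans hT).trans h.nV
  rintro x ⟨hx, hxB⟩
  refine (mem_NN h.cV hBV).2 ⟨hx, fun b hb => ?_⟩
  rw [cm_eq_one.2 (mem_centralizer_iff.1 hxB b hb)]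
  exact one_mem _

theorem loc_main [Finite ι] {v : G} (hv : v ∈ lam) (hvT : v ∉ centralizer (T : Set G)) :
    (centralizer (B : Set G)).relIndex (NN V B (LL T v)) ≤ (centralizer (B : Set G)).relIndex E ∧
    ((centralizer (B : Set G)).relIndex (NN V B (LL T v)) = (centralizer (B : Set G)).relIndex E →
      ∀ x ∈ V, ∀ b ∈ B, cm b x ∈ centralizer (T : Set G)) := by
  classical
  obtain ⟨j, hj, hjx⟩ := h.loc_aux hT g hB hv hvT
  have hvV := g.leV hv
  have hBV : B ≤ normalizer (V : Set G) := (hB.trans hT).trans h.nV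
  have hBS : B ≤ S := hB.trans hT
  have hι : Nonempty ι := ⟨j⟩
  set N := NN V B (LL T v) with hN
  have hNV : N ≤ V := NN_le h.cV hBV
  let f : V →* G :=
    { toFun := fun v => p j v
      map_one' := h.one j
      map_mul' := fun v w => h.mul j v v.2 w w.2 }
  set N' : Subgroup G := (N.subgroupOf V).map f with hN'
  have hN'E : N' ≤ E := by
    rintro _ ⟨x, _, rfl⟩
    exact h.mem j x x.2
  have h1 : (centralizer (B : Set G)).relIndex N = (centralizer (B : Set G)).relIndex N' := by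
    rw [hN', ← relIndex_comap, ← relIndex_subgroupOf hNV, ← inf_relIndex_right,
      ← inf_relIndex_right (comap f (centralizer (B : Set G)))]
    congr 1
    ext x
    constructor
    · rintro ⟨h1, h2⟩
      exact ⟨(h.mem_cent hBS x.2).1 h1 j, h2⟩
    · rintro ⟨h1, h2⟩
      exact ⟨hjx x h2 h1, h2⟩
  refine ⟨?_, fun heq => ?_⟩
  · rw [h1]
    exact relIndex_le_of_le_right hN'E index_ne_zero_of_finite
  · -- `E = C_E(B) N'`
    set C := E ⊓ centralizer (B : Set G) with hC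
    have hn : N' ≤ normalizer (C : Set G) := by
      refine hN'E.trans ((h.cE.trans (centralizer_le inf_le_left)).trans (centralizer_le_normalizer _))
    have h2 : C.relIndex (C ⊔ N') = C.relIndex N' := by
      have hKn : (C.subgroupOf (C ⊔ N')).Normal :=
        normal_subgroupOf_of_le_normalizer (sup_le le_normalizer hn)
      have h1 := relIndex_sup_left (N'.subgroupOf (C ⊔ N')) (C.subgroupOf (C ⊔ N'))
      rw [← Subgroup.subgroupOf_sup le_sup_left le_sup_right, Subgroup.subgroupOf_self,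
        Subgroup.relIndex_subgroupOf le_sup_right, relIndex_top_right] at h1
      exact h1
    have h3 : C.relIndex N' = (centralizer (B : Set G)).relIndex N' := by
      rw [← inf_relIndex_right, hC, inf_assoc, inf_comm, inf_assoc, inf_eq_left.2 hN'E, inf_relIndex_right]
    have h4 : C.relIndex E = (centralizer (B : Set G)).relIndex E := by
      rw [hC, inf_relIndex_left]
    have h5 := relIndex_mul_relIndex C (C ⊔ N') E le_sup_left (sup_le inf_le_left hN'E)
    rw [h2, h3, ← h1, heq, h4] at h5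
    have h6 : (C ⊔ N').relIndex E = 1 := by
      have h7 : 0 < (centralizer (B : Set G)).relIndex E := Nat.pos_of_ne_zero index_ne_zero_of_finite
      exact Nat.eq_of_mul_eq_mul_left h7 (by rw [h5, mul_one])
    have h7 : E ≤ C ⊔ N' := relIndex_eq_one.1 h6
    -- `[E, B] ≤ C(T)`
    have key : ∀ u ∈ E, ∀ b ∈ B, cm b u ∈ centralizer (T : Set G) := by
      intro u hu b hb
      have hmem : u ∈ N' ⊔ C := sup_comm C N' ▸ h7 hu
      have h8 : u ∈ ((N' ⊔ C : Subgroup G) : Set G) := hmem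
      rw [coe_mul_of_left_le_normalizer_right N' C hn] at h8
      obtain ⟨_, ⟨⟨x, hxV⟩, hx, rfl⟩, c, hc, rfl⟩ := Set.mem_mul.mp h8
      have hx' : x ∈ V ∧ ∀ b ∈ B, cm b x ∈ LL T v := (mem_NN h.cV hBV).1 hx
      have hfx : p j x ∈ E := h.mem j x hxV
      change cm b (p j x * c) ∈ _
      rw [cm_mul h.cE (hBS.trans h.nE) hb hfx hc.1, cm_eq_one.2 (mem_centralizer_iff.1 hc.2 b hb), mul_one,
        ← h.p_cm j (hBS hb) hxV]
      obtain ⟨t, ht, htb⟩ := (mem_LL (g.fix v hv)).1 (hx'.2 b hb)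
      rw [← htb]
      exact (h.mem_cent hT (cm_mem (hT.trans h.nV) ht hvV)).1 (g.fix v hv t ht) j
    intro x hx b hb
    refine (h.mem_cent hT (cm_mem hBV hb hx)).2 fun i => ?_
    rw [h.p_cm i (hBS hb) hx]
    exact key _ (h.mem i x hx) b hb

/-- **(*)** : `|E : C_E(B)|^(k-1) ≤ |V : {x ∈ V | [x, B] ≤ [v, T]}|` -/
theorem loc [Finite ι] {v : G} (hv : v ∈ lam) (hvT : v ∉ centralizer (T : Set G)) :
    (centralizer (B : Set G)).relIndex E ^ (Nat.card ι - 1) ≤ (NN V B (LL T v)).relIndex V ∧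
    ((centralizer (B : Set G)).relIndex E ^ (Nat.card ι - 1) = (NN V B (LL T v)).relIndex V →
      ∀ x ∈ V, ∀ b ∈ B, cm b x ∈ centralizer (T : Set G)) := by
  have hBV : B ≤ normalizer (V : Set G) := (hB.trans hT).trans h.nV
  have hι : Nonempty ι := by
    by_contra hcon
    rw [not_nonempty_iff] at hcon
    have h1 : v = 1 := h.inj v (g.leV hv) fun j => hcon.elim j
    rw [h1] at hvT
    exact hvT (one_mem _)
  have hk : 0 < Nat.card ι := Nat.card_pos
  obtain ⟨h1, h2⟩ := h.loc_main hT g hB hv hvT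
  have h3 := relIndex_mul_relIndex (V ⊓ centralizer (B : Set G)) (NN V B (LL T v)) V
    (h.cent_le_NN hT hB) (NN_le h.cV hBV)
  rw [inf_relIndex_left, h.index_cent (hB.trans hT)] at h3
  have h4 : (V ⊓ centralizer (B : Set G)).relIndex (NN V B (LL T v)) =
      (centralizer (B : Set G)).relIndex (NN V B (LL T v)) := by
    rw [← inf_relIndex_right, inf_right_comm, inf_eq_right.2 (NN_le h.cV hBV), inf_comm, inf_relIndex_right]
  rw [h4] at h3
  obtain ⟨k, hk'⟩ : ∃ k, Nat.card ι = k + 1 := ⟨Nat.card ι - 1, by omega⟩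
  rw [hk', pow_succ, mul_comm (_ ^ k)] at h3
  rw [hk', Nat.add_sub_cancel]
  have h5 : 0 < (centralizer (B : Set G)).relIndex E := Nat.pos_of_ne_zero index_ne_zero_of_finite
  refine ⟨?_, fun h6 => h2 ?_⟩
  · refine Nat.le_of_mul_le_mul_left ?_ h5
    rw [← h3]
    exact Nat.mul_le_mul_right _ h1
  · rw [h6] at h3
    have h7 : 0 < (NN V B (LL T v)).relIndex V := Nat.pos_of_ne_zero index_ne_zero_of_finite
    exact Nat.eq_of_mul_eq_mul_right h7 h3

/-- `[V, B] ≤ [v, T]` implies `[V, B] = 1` -/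
theorem cent_of_le [Finite ι] (hk : 2 ≤ Nat.card ι) {v : G} (hv : v ∈ lam) (hvT : v ∉ centralizer (T : Set G))
    (hL : ∀ x ∈ V, ∀ b ∈ B, cm b x ∈ LL T v) : B ≤ centralizer (V : Set G) := by
  have hBV : B ≤ normalizer (V : Set G) := (hB.trans hT).trans h.nV
  have h1 := (h.loc hT g hB hv hvT).1
  have h2 : (NN V B (LL T v)).relIndex V = 1 :=
    relIndex_eq_one.2 fun x hx => (mem_NN h.cV hBV).2 ⟨hx, hL x hx⟩
  rw [h2] at h1
  have h3 : (centralizer (B : Set G)).relIndex E = 1 := by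
    have h4 : 0 < (centralizer (B : Set G)).relIndex E := Nat.pos_of_ne_zero index_ne_zero_of_finite
    by_contra h5
    have h6 : 1 < (centralizer (B : Set G)).relIndex E := by omega
    have h7 := Nat.one_lt_pow (show Nat.card ι - 1 ≠ 0 by omega) h6
    omega
  have h4 : V ≤ centralizer (B : Set G) := by
    rw [← relIndex_eq_one, h.index_cent (hB.trans hT), h3, one_pow]
  intro b hb
  rw [mem_centralizer_iff]
  exact fun x hx => (mem_centralizer_iff.1 (h4 hx) b hb).symm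

end Loc

end Pow

end Cfsg.Agent.Omega.NO3b.ClosedPow
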