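import Cfsg.Agent.Omega.NO3b.Closed.Trace

/-!
# #19499 (0): closed points

* `RR.step` (ITR): `D ∈ RR`, `v ∈ V`, `[v, T_D] ≤ D` ⇒ `D⟨v⟩ ∈ RR`;
* `RR.closure`, `Flag.clo_Z`;
* `plus S V D v` = `D₊ = C_V(C_S(D⟨v⟩))`: `Clo.plus`, `Clo.cent_plus`, `Clo.lt_plus`;
* `Clo.c2` (C2): `{c ∈ C_G(D) : [c, v] ∈ D} = C_G(D₊) T_D`.
-/

set_option autoImplicit false

namespace Cfsg.Agent.Omega.NO3b.ClosedPt

open Subgroup Cfsg Cfsg.Agent.ZN Cfsg.Agent.ZN.ChoiceBase Cfsg.Agent.ZN.ChoiceSit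
open Cfsg.Agent.Omega.NO3b.EZero

universe u

variable {G : Type u} [Group G] {S Z V D : Subgroup G}

/-! ### generalities -/

theorem mem_cent_sup {D : Subgroup G} {v c : G} :
    c ∈ centralizer ((D ⊔ zpowers v : Subgroup G) : Set G) ↔ c ∈ centralizer (D : Set G) ∧ c * v = v * c := by
  constructor
  · intro h
    refine ⟨centralizer_le (show (D : Set G) ⊆ _ from (le_sup_left : D ≤ D ⊔ zpowers v)) h, ?_⟩
    exact (mem_centralizer_iff.1 h v ((le_sup_right : zpowers v ≤ D ⊔ zpowers v) (mem_zpowers v))).symm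
  · rintro ⟨h1, h2⟩
    have h3 : D ⊔ zpowers v ≤ centralizer ({c} : Set G) := by
      refine sup_le ?_ (zpowers_le.2 ?_)
      · intro d hd
        exact mem_centralizer_iff.2 fun x hx => by
          rw [Set.mem_singleton_iff.1 hx]; exact (mem_centralizer_iff.1 h1 d hd).symm
      · exact mem_centralizer_iff.2 fun x hx => by rw [Set.mem_singleton_iff.1 hx]; exact h2
    exact mem_centralizer_iff.2 fun x hx => (mem_centralizer_iff.1 (h3 hx) c rfl).symm

theorem norm_cent {A B : Subgroup G} (h : A ≤ normalizer (B : Set G)) :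
    A ≤ normalizer ((centralizer (B : Set G) : Subgroup G) : Set G) := by
  intro a ha
  rw [mem_normalizer_iff_cj, cj_centralizer, mem_normalizer_iff_cj.1 (h ha)]

theorem norm_inf {A B C : Subgroup G} (h : A ≤ normalizer (B : Set G)) (h' : A ≤ normalizer (C : Set G)) :
    A ≤ normalizer ((B ⊓ C : Subgroup G) : Set G) := by
  intro a ha
  rw [mem_normalizer_iff_cj, cj_inf, mem_normalizer_iff_cj.1 (h ha), mem_normalizer_iff_cj.1 (h' ha)]

theorem norm_of {A B : Subgroup G} (h : ∀ a ∈ A, ∀ x ∈ B, a * x * a⁻¹ ∈ B) :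
    A ≤ normalizer (B : Set G) := by
  intro a ha
  rw [mem_normalizer_iff]
  refine fun x => ⟨h a ha x, fun hx => ?_⟩
  have h1 := h a⁻¹ (inv_mem ha) _ hx
  have e : a⁻¹ * (a * x * a⁻¹) * a⁻¹⁻¹ = x := by group
  rwa [e] at h1

theorem cj_mem {A B : Subgroup G} (h : A ≤ normalizer (B : Set G)) {a x : G} (ha : a ∈ A) (hx : x ∈ B) :
    a * x * a⁻¹ ∈ B := (mem_normalizer_iff.1 (h ha) x).1 hx

theorem cj_mem' {A B : Subgroup G} (h : A ≤ normalizer (B : Set G)) {a x : G} (ha : a ∈ A) (hx : x ∈ B) :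
    a⁻¹ * x * a ∈ B := (mem_normalizer_iff''.1 (h ha) x).1 hx

theorem cent_mono {A B : Subgroup G} (h : A ≤ B) : centralizer (B : Set G) ≤ centralizer (A : Set G) :=
  centralizer_le h

theorem comm_of_cent {A B : Subgroup G} (h : A ≤ centralizer (B : Set G)) {a b : G} (ha : a ∈ A) (hb : b ∈ B) :
    a * b = b * a := (mem_centralizer_iff.1 (h ha) b hb).symm

theorem card_mul_relIndex {A B : Subgroup G} (h : A ≤ B) : Nat.card A * A.relIndex B = Nat.card B := by
  rw [Subgroup.relIndex, ← Nat.card_congr (Subgroup.subgroupOfEquivOfLe h).toEquiv]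
  exact Subgroup.card_mul_index _

/-- `|K L| |K ∩ L| = |K| |L|` -/
theorem card_sup_mul {K L : Subgroup G} (h : L ≤ normalizer (K : Set G)) :
    Nat.card (K ⊔ L : Subgroup G) * Nat.card (K ⊓ L : Subgroup G) = Nat.card K * Nat.card L := by
  have hKn : (K.subgroupOf (K ⊔ L)).Normal :=
    normal_subgroupOf_of_le_normalizer (sup_le le_normalizer h)
  have h1 := relIndex_sup_left (L.subgroupOf (K ⊔ L)) (K.subgroupOf (K ⊔ L))
  rw [← Subgroup.subgroupOf_sup le_sup_left le_sup_right, Subgroup.subgroupOf_self,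
    Subgroup.relIndex_subgroupOf le_sup_right, relIndex_top_right] at h1
  have h2 : Nat.card K * K.relIndex L = Nat.card (K ⊔ L : Subgroup G) := by
    rw [← h1]
    exact card_mul_relIndex le_sup_left
  have h3 : Nat.card (K ⊓ L : Subgroup G) * K.relIndex L = Nat.card L := by
    rw [← Subgroup.inf_relIndex_right K L]
    exact card_mul_relIndex inf_le_right
  calc _ = Nat.card (K ⊔ L : Subgroup G) * Nat.card (K ⊓ L : Subgroup G) := rfl
    _ = Nat.card K * (Nat.card (K ⊓ L : Subgroup G) * K.relIndex L) := by rw [← h2]; ring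
    _ = _ := by rw [h3]

/-- `T ≤ Y` of odd index, `X ≤ Y` normalised by `T`: `T ∩ X` has odd index in `X`. -/
theorem odd_inf [Finite G] {T X Y : Subgroup G} (hTX : T ≤ normalizer (X : Set G)) (hTY : T ≤ Y) (hXY : X ≤ Y)
    (hodd : ¬ 2 ∣ T.relIndex Y) : ¬ 2 ∣ (T ⊓ X).relIndex X := by
  intro h2
  apply hodd
  have h1 : T.relIndex (X ⊔ T) * (X ⊔ T).relIndex Y = T.relIndex Y :=
    relIndex_mul_relIndex _ _ _ le_sup_right (sup_le hXY hTY)
  refine Dvd.dvd.trans ?_ (Dvd.intro _ h1)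
  have h3 := card_sup_mul hTX
  have h4 : Nat.card T * T.relIndex (X ⊔ T) = Nat.card (X ⊔ T : Subgroup G) := card_mul_relIndex le_sup_right
  have h5 : Nat.card (T ⊓ X : Subgroup G) * (T ⊓ X).relIndex X = Nat.card X := card_mul_relIndex inf_le_right
  have h6 : T.relIndex (X ⊔ T) = (T ⊓ X).relIndex X := by
    rw [← h4, ← h5, inf_comm] at h3
    have h7 : 0 < Nat.card T := Nat.card_pos
    have h8 : 0 < Nat.card (T ⊓ X : Subgroup G) := Nat.card_pos
    have h9 : (Nat.card T * Nat.card (T ⊓ X : Subgroup G)) * T.relIndex (X ⊔ T) =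
        (Nat.card T * Nat.card (T ⊓ X : Subgroup G)) * (T ⊓ X).relIndex X := by
      calc _ = Nat.card T * T.relIndex (X ⊔ T) * Nat.card (T ⊓ X : Subgroup G) := by ring
        _ = _ := h3
        _ = _ := by ring
    exact Nat.eq_of_mul_eq_mul_left (Nat.mul_pos h7 h8) h9
  rwa [h6]

/-! ### the flag -/

namespace Flag

variable (h : Flag S Z V)
include h

theorem two : IsPGroup 2 S := h.syl.2.1

theorem SC : S ≤ centralizer (Z : Set G) := h.syl.1

theorem Wcomm : ∀ a ∈ cl V (centralizer (Z : Set G)), ∀ b ∈ cl V (centralizer (Z : Set G)), a * b = b * a :=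
  fun _ ha _ hb => comm_of_cent h.comm ha hb

theorem Wsq : ∀ a ∈ cl V (centralizer (Z : Set G)), a * a = 1 := by
  intro a ha
  have h1 := sq_of_comm h.comm (B := fun c : centralizer (Z : Set G) => cj (c : G) V)
    (fun c => cj_le_cl c.2) le_rfl (by
      rintro c _ ⟨x, hx, rfl⟩
      rw [← map_pow, pow_two, h.sq x hx, map_one]) a ha
  rwa [pow_two] at h1

theorem Vcomm : ∀ a ∈ V, ∀ b ∈ V, a * b = b * a :=
  fun a ha b hb => h.Wcomm a (le_cl _ _ ha) b (le_cl _ _ hb)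

theorem VC : V ≤ centralizer (V : Set G) := fun a ha =>
  mem_centralizer_iff.2 fun b hb => h.Vcomm b hb a ha

theorem clo_Z [Finite G] : Clo S Z V Z where
  ZD := le_rfl
  DV := h.ZV
  odd := by
    rw [inf_eq_left.2 h.SC]
    exact syl_not_dvd h.syl
  fix := fun w hw hf hy => h.fixC w hw (fun s hs => hf s ⟨hs, h.SC hs⟩) hy
  clo := fun w hw hf => h.fixV w hw (fun s hs => hf s ⟨hs, h.SC hs⟩)

end Flag

/-! ### `RR` -/

namespace RR

variable (r : RR S Z V D)
include r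

theorem CD_le : centralizer (D : Set G) ≤ centralizer (Z : Set G) := cent_mono r.ZD

/-- **(ITR)** -/
theorem step [Finite G] (h : Flag S Z V) {v : G} (hv : v ∈ V)
    (hvD : ∀ t ∈ S ⊓ centralizer (D : Set G), t * v * t⁻¹ * v⁻¹ ∈ D) : RR S Z V (D ⊔ zpowers v) := by
  set T := S ⊓ centralizer (D : Set G) with hT
  set X := centralizer ((D ⊔ zpowers v : Subgroup G) : Set G) with hX
  have hXC : X ≤ centralizer (D : Set G) := cent_mono le_sup_left
  have hTX : T ≤ normalizer (X : Set G) := by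
    refine norm_cent (norm_of fun t ht x hx => ?_)
    have key : D ⊔ zpowers v ≤ cj t⁻¹ (D ⊔ zpowers v) := by
      refine sup_le ?_ (zpowers_le.2 ?_)
      · intro d hd
        rw [mem_cj]
        have h1 := mem_centralizer_iff.1 ht.2 d hd
        have e1 : t⁻¹⁻¹ * d * t⁻¹ = d := by
          rw [inv_inv, ← h1]; group
        rw [e1]
        exact (le_sup_left : D ≤ D ⊔ zpowers v) hd
      · rw [mem_cj]
        have e1 : t⁻¹⁻¹ * v * t⁻¹ = t * v * t⁻¹ * v⁻¹ * v := by group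
        rw [e1]
        exact mul_mem ((le_sup_left : D ≤ D ⊔ zpowers v) (hvD t ht))
          ((le_sup_right : zpowers v ≤ D ⊔ zpowers v) (mem_zpowers v))
    have h1 := mem_cj.1 (key hx)
    rwa [inv_inv] at h1
  have e1 : S ⊓ X = T ⊓ X := by
    ext x
    simp only [mem_inf, hT]
    exact ⟨fun hx => ⟨⟨hx.1, hXC hx.2⟩, hx.2⟩, fun hx => ⟨hx.1.1, hx.2⟩⟩
  have hWn : centralizer (Z : Set G) ≤ normalizer (cl V (centralizer (Z : Set G)) : Set G) := le_normalizer_cl _ _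
  have hodd : ¬ 2 ∣ (T ⊓ X).relIndex X := odd_inf hTX inf_le_right hXC r.odd
  refine ⟨r.ZD.trans le_sup_left, sup_le r.DV (zpowers_le.2 hv), ?_, ?_⟩
  · rw [← hX, e1]
    exact hodd
  · rw [← hX, e1]
    exact trace' h.Wcomm h.Wsq ((hXC.trans r.CD_le).trans hWn) (h.two.to_le inf_le_left)
      ((inf_le_right.trans r.CD_le).trans hWn) hTX (cent_mono (sup_le r.DV (zpowers_le.2 hv)))
      (norm_cent (inf_le_left.trans h.SV)) hodd fun w hw hf hy x hx => r.fix w hw hf hy x (hXC hx)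

/-- the closure of a point of `RR` -/
theorem cent_closure : centralizer ((V ⊓ centralizer ((S ⊓ centralizer (D : Set G) : Subgroup G) : Set G) :
    Subgroup G) : Set G) = centralizer (D : Set G) := by
  apply le_antisymm
  · refine cent_mono fun d hd => ⟨r.DV hd, mem_centralizer_iff.2 fun t ht => ?_⟩
    exact (mem_centralizer_iff.1 ht.2 d hd).symm
  · intro c hc
    refine mem_centralizer_iff.2 fun w hw => ?_
    exact (r.fix w (le_cl _ _ hw.1) (fun t ht => mem_centralizer_iff.1 hw.2 t ht)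
      (fun _ hy => (mem_centralizer_iff.1 hy w hw.1).symm) c hc).symm

theorem le_closure : D ≤ V ⊓ centralizer ((S ⊓ centralizer (D : Set G) : Subgroup G) : Set G) :=
  fun d hd => ⟨r.DV hd, mem_centralizer_iff.2 fun _ ht => (mem_centralizer_iff.1 ht.2 d hd).symm⟩

theorem closure : Clo S Z V (V ⊓ centralizer ((S ⊓ centralizer (D : Set G) : Subgroup G) : Set G)) where
  ZD := r.ZD.trans r.le_closure
  DV := inf_le_left
  odd := by rw [r.cent_closure]; exact r.odd
  fix := by rw [r.cent_closure]; exact r.fix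
  clo := by
    rw [r.cent_closure]
    exact fun w hw hf => ⟨hw, mem_centralizer_iff.2 hf⟩

end RR

/-- `D₊ = C_V(C_S(D⟨v⟩))` -/
def plus (S V D : Subgroup G) (v : G) : Subgroup G :=
  V ⊓ centralizer ((S ⊓ centralizer ((D ⊔ zpowers v : Subgroup G) : Set G) : Subgroup G) : Set G)

namespace Clo

variable (k : Clo S Z V D)
include k

theorem mem_iff {w : G} (hw : w ∈ V) : w ∈ D ↔ ∀ t ∈ S ⊓ centralizer (D : Set G), t * w = w * t :=
  ⟨fun h _ ht => (mem_centralizer_iff.1 ht.2 w h).symm, k.clo w hw⟩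

variable {v : G} (h : Flag S Z V) (hv : v ∈ V)
  (hvD : ∀ t ∈ S ⊓ centralizer (D : Set G), t * v * t⁻¹ * v⁻¹ ∈ D)

theorem plus_clo [Finite G] (h : Flag S Z V) (hv : v ∈ V)
    (hvD : ∀ t ∈ S ⊓ centralizer (D : Set G), t * v * t⁻¹ * v⁻¹ ∈ D) : Clo S Z V (plus S V D v) :=
  (k.step h hv hvD).closure

theorem cent_plus [Finite G] (h : Flag S Z V) (hv : v ∈ V)
    (hvD : ∀ t ∈ S ⊓ centralizer (D : Set G), t * v * t⁻¹ * v⁻¹ ∈ D) :
    centralizer (plus S V D v : Set G) = centralizer ((D ⊔ zpowers v : Subgroup G) : Set G) :=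
  (k.step h hv hvD).cent_closure

theorem sup_le_plus [Finite G] (h : Flag S Z V) (hv : v ∈ V)
    (hvD : ∀ t ∈ S ⊓ centralizer (D : Set G), t * v * t⁻¹ * v⁻¹ ∈ D) : D ⊔ zpowers v ≤ plus S V D v :=
  (k.step h hv hvD).le_closure

theorem lt_plus [Finite G] (h : Flag S Z V) (hv : v ∈ V)
    (hvD : ∀ t ∈ S ⊓ centralizer (D : Set G), t * v * t⁻¹ * v⁻¹ ∈ D) (hn : v ∉ D) : D < plus S V D v := by
  have h1 := k.sup_le_plus h hv hvD
  refine lt_of_le_of_ne (le_sup_left.trans h1) fun e => hn ?_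
  rw [e]
  exact h1 ((le_sup_right : zpowers v ≤ D ⊔ zpowers v) (mem_zpowers v))

theorem cent_plus_le [Finite G] (h : Flag S Z V) (hv : v ∈ V)
    (hvD : ∀ t ∈ S ⊓ centralizer (D : Set G), t * v * t⁻¹ * v⁻¹ ∈ D) :
    centralizer (plus S V D v : Set G) ≤ centralizer (D : Set G) :=
  cent_mono (le_sup_left.trans (k.sup_le_plus h hv hvD))

end Clo

/-- `T_D` normalises `D⟨v⟩` -/
theorem norm_sup {T D : Subgroup G} {v : G} (hT : T ≤ centralizer (D : Set G))
    (hvD : ∀ t ∈ T, t * v * t⁻¹ * v⁻¹ ∈ D) : T ≤ normalizer ((D ⊔ zpowers v : Subgroup G) : Set G) := by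
  refine norm_of fun t ht x hx => ?_
  have key : D ⊔ zpowers v ≤ cj t⁻¹ (D ⊔ zpowers v) := by
    refine sup_le ?_ (zpowers_le.2 ?_)
    · intro d hd
      rw [mem_cj]
      have h1 := mem_centralizer_iff.1 (hT ht) d hd
      have e1 : t⁻¹⁻¹ * d * t⁻¹ = d := by
        rw [inv_inv, ← h1]; group
      rw [e1]
      exact (le_sup_left : D ≤ D ⊔ zpowers v) hd
    · rw [mem_cj]
      have e1 : t⁻¹⁻¹ * v * t⁻¹ = t * v * t⁻¹ * v⁻¹ * v := by group
      rw [e1]
      exact mul_mem ((le_sup_left : D ≤ D ⊔ zpowers v) (hvD t ht))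
        ((le_sup_right : zpowers v ≤ D ⊔ zpowers v) (mem_zpowers v))
  have h1 := mem_cj.1 (key hx)
  rwa [inv_inv] at h1

/-- `{c ∈ C_G(D) : [c, v] ∈ D}` -/
def sv (D : Subgroup G) (v : G) : Subgroup G where
  carrier := {c | c ∈ centralizer (D : Set G) ∧ c * v * c⁻¹ * v⁻¹ ∈ D}
  mul_mem' := by
    rintro a b ⟨ha, ha'⟩ ⟨hb, hb'⟩
    refine ⟨mul_mem ha hb, ?_⟩
    have h1 := mem_centralizer_iff.1 ha _ hb'
    have e1 : a * b * v * (a * b)⁻¹ * v⁻¹ = (a * (b * v * b⁻¹ * v⁻¹)) * a⁻¹ * (a * v * a⁻¹ * v⁻¹) := by group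
    rw [e1, ← h1]
    have e2 : b * v * b⁻¹ * v⁻¹ * a * a⁻¹ * (a * v * a⁻¹ * v⁻¹) = (b * v * b⁻¹ * v⁻¹) * (a * v * a⁻¹ * v⁻¹) := by
      group
    rw [e2]
    exact mul_mem hb' ha'
  one_mem' := ⟨one_mem _, by simp⟩
  inv_mem' := by
    rintro a ⟨ha, ha'⟩
    refine ⟨inv_mem ha, ?_⟩
    have h1 := mem_centralizer_iff.1 ha _ (inv_mem ha')
    have e1 : a⁻¹ * v * a⁻¹⁻¹ * v⁻¹ = a⁻¹ * ((a * v * a⁻¹ * v⁻¹)⁻¹ * a) := by group
    rw [e1, h1]
    have e2 : a⁻¹ * (a * (a * v * a⁻¹ * v⁻¹)⁻¹) = (a * v * a⁻¹ * v⁻¹)⁻¹ := by group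
    rw [e2]
    exact inv_mem ha'

theorem mem_sv {D : Subgroup G} {v c : G} :
    c ∈ sv D v ↔ c ∈ centralizer (D : Set G) ∧ c * v * c⁻¹ * v⁻¹ ∈ D := Iff.rfl

/-- a subgroup of odd index together with a normal subgroup with elementary abelian quotient -/
theorem le_sup_of_sq [Finite G] {K T Y : Subgroup G} (hn : Y ≤ normalizer (K : Set G))
    (hsq : ∀ y ∈ Y, y * y ∈ K) (hodd : ¬ 2 ∣ T.relIndex Y) : Y ≤ K ⊔ T := by
  have : Fact (Nat.Prime 2) := ⟨Nat.prime_two⟩
  have hN : (K.subgroupOf Y).Normal := normal_subgroupOf_of_le_normalizer hn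
  have h1 : IsPGroup 2 (Y ⧸ K.subgroupOf Y) := by
    intro q
    obtain ⟨x, rfl⟩ := QuotientGroup.mk_surjective q
    refine ⟨1, ?_⟩
    rw [← QuotientGroup.mk_pow, QuotientGroup.eq_one_iff, mem_subgroupOf, pow_one, pow_two]
    exact hsq x x.2
  obtain ⟨n, hn⟩ := IsPGroup.iff_card.1 h1
  have h2 : (K ⊔ T).relIndex Y ∣ 2 ^ n := by
    have h3 : (K ⊔ T).relIndex Y ∣ K.relIndex Y := relIndex_dvd_of_le_left _ le_sup_left
    have h4 : K.relIndex Y = 2 ^ n := by
      rw [← hn, relIndex, index_eq_card]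
    rwa [h4] at h3
  obtain ⟨j, -, hj⟩ := (Nat.dvd_prime_pow Nat.prime_two).1 h2
  have h5 : (K ⊔ T).relIndex Y ∣ T.relIndex Y := relIndex_dvd_of_le_left _ le_sup_right
  rw [hj] at h5
  rcases Nat.eq_zero_or_pos j with rfl | hj0
  · rw [pow_zero] at hj
    exact relIndex_eq_one.1 hj
  · exact absurd ((dvd_pow_self 2 hj0.ne').trans h5) hodd

/-- **(C2)** -/
theorem Clo.c2 [Finite G] (k : Clo S Z V D) (h : Flag S Z V) {v : G} (hv : v ∈ V)
    (hvD : ∀ t ∈ S ⊓ centralizer (D : Set G), t * v * t⁻¹ * v⁻¹ ∈ D) :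
    sv D v = centralizer (plus S V D v : Set G) ⊔ (S ⊓ centralizer (D : Set G)) := by
  rw [k.cent_plus h hv hvD]
  set T := S ⊓ centralizer (D : Set G) with hT
  set X := centralizer ((D ⊔ zpowers v : Subgroup G) : Set G) with hX
  have hXC : X ≤ centralizer (D : Set G) := cent_mono le_sup_left
  have hXY : X ≤ sv D v := by
    intro c hc
    obtain ⟨h1, h2⟩ := mem_cent_sup.1 hc
    refine ⟨h1, ?_⟩
    rw [h2]
    simp
  have hTY : T ≤ sv D v := fun t ht => ⟨ht.2, hvD t ht⟩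
  have hYC : sv D v ≤ centralizer (D : Set G) := fun c hc => hc.1
  apply le_antisymm _ (sup_le hXY hTY)
  refine le_sup_of_sq (norm_cent (norm_sup hYC fun c hc => hc.2)) ?_ ?_
  · intro y hy
    refine mem_cent_sup.2 ⟨mul_mem hy.1 hy.1, ?_⟩
    obtain ⟨h1, h2⟩ := hy
    set d := y * v * y⁻¹ * v⁻¹ with hd
    have h3 : y * v = d * v * y := by rw [hd]; group
    have h4 := mem_centralizer_iff.1 h1 d h2
    have h5 : d * d = 1 := h.sq d (k.DV h2)
    calc y * y * v = y * (y * v) := by group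
      _ = y * (d * v * y) := by rw [h3]
      _ = (y * d) * v * y := by group
      _ = (d * y) * v * y := by rw [h4]
      _ = d * (y * v) * y := by group
      _ = d * (d * v * y) * y := by rw [h3]
      _ = d * d * v * (y * y) := by group
      _ = v * (y * y) := by rw [h5, one_mul]
  · intro h2
    apply k.odd
    have h3 : T.relIndex (sv D v) * (sv D v).relIndex (centralizer (D : Set G)) =
        T.relIndex (centralizer (D : Set G)) := relIndex_mul_relIndex _ _ _ hTY hYC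
    exact h2.trans (Dvd.intro _ h3)

end Cfsg.Agent.Omega.NO3b.ClosedPt
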