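import Cfsg.Agent.Omega.NO3b.EZeroPair
import Cfsg.Agent.PLocal.OffenderStep

/-!
# #19499 (helper768), NotFF (c), wreathed + fields: the interface

* `Flag S Z V` : the flag: `S` Sylow in `C = C_G(Z)`, `V ≤ O₂(C)`, `W = ⟨V^C⟩` elementary abelian,
  `C_V(S) = Z` (`fixV`) and `C_W(S) ∩ C(C_G(V))` is centralised by `C` (`fixC`; helper133, #21097: the extra
  hypothesis `C(C_G(V))` is for [R-z]; 554 / 506: the split form is for the base point `Z₁ = C_V(S₁)`).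
  `Flag.of_fix` : from `C_W(S) ∩ C(C_G(V)) = Z`;
* `RR S Z V D` : `Z ≤ D ≤ V`, `T_D = C_S(D)` is Sylow in `C_G(D)`, `C_W(T_D) ∩ C(C_G(V))` is centralised by
  `C_G(D)`;
* `Clo S Z V D` : closed point: in addition `D = C_V(T_D)`;
* `InL T w d` : `d ∈ L(w) = [T, w]`;
* `GoodAt T V D lam T₀` : the good set `lam` of a closed point `D ≠ V`, `T = T_D` (helper554, #20057 (1'), (*')).
-/

set_option autoImplicit false

namespace Cfsg.Agent.Omega.NO3b.ClosedPt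

open Subgroup Cfsg Cfsg.Agent.ZN Cfsg.Agent.ZN.ChoiceBase Cfsg.Agent.ZN.ChoiceSit
open Cfsg.Agent.Omega.NO3b.EZero

universe u

variable {G : Type u} [Group G]

/-- a 2-group acting on a nontrivial 2-group has a nontrivial fixed point -/
theorem exists_fixed [Finite G] {A Q : Subgroup G} (hA : IsPGroup 2 A) (hA1 : A ≠ ⊥) (hQ : IsPGroup 2 Q)
    (hn : Q ≤ normalizer (A : Set G)) : ∃ c ∈ A, c ≠ 1 ∧ c ∈ centralizer (Q : Set G) := by
  have hf : Fact (Nat.Prime 2) := ⟨Nat.prime_two⟩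
  have h1 := PLocal.OffenderStep.inf_centralizer_ne_bot A Q hA hQ hn hA1
  obtain ⟨c, hc1⟩ := Subgroup.ne_bot_iff_exists_ne_one.1 h1
  exact ⟨c, c.2.1, fun h0 => hc1 (Subtype.ext h0), c.2.2⟩

/-- the flag -/
structure Flag (S Z V : Subgroup G) : Prop where
  syl : Syl S (centralizer (Z : Set G))
  ZV : Z ≤ V
  SV : S ≤ normalizer (V : Set G)
  Vo : V ≤ o2 (centralizer (Z : Set G))
  comm : cl V (centralizer (Z : Set G)) ≤ centralizer (cl V (centralizer (Z : Set G)) : Set G)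
  sq : ∀ v ∈ V, v * v = 1
  fixC : ∀ w ∈ cl V (centralizer (Z : Set G)), (∀ s ∈ S, s * w = w * s) →
    (∀ y ∈ centralizer (V : Set G), y * w = w * y) → ∀ c ∈ centralizer (Z : Set G), c * w = w * c
  fixV : ∀ v ∈ V, (∀ s ∈ S, s * v = v * s) → v ∈ Z

/-- the flag from `C_W(S) ∩ C(C_G(V)) = Z` -/
theorem Flag.of_fix {S Z V : Subgroup G} (syl : Syl S (centralizer (Z : Set G))) (ZV : Z ≤ V)
    (SV : S ≤ normalizer (V : Set G)) (Vo : V ≤ o2 (centralizer (Z : Set G)))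
    (comm : cl V (centralizer (Z : Set G)) ≤ centralizer (cl V (centralizer (Z : Set G)) : Set G))
    (sq : ∀ v ∈ V, v * v = 1)
    (fix : ∀ w ∈ cl V (centralizer (Z : Set G)), (∀ s ∈ S, s * w = w * s) →
      (∀ y ∈ centralizer (V : Set G), y * w = w * y) → w ∈ Z) : Flag S Z V where
  syl := syl
  ZV := ZV
  SV := SV
  Vo := Vo
  comm := comm
  sq := sq
  fixC := fun w hw hS hy c hc => (mem_centralizer_iff.1 hc w (fix w hw hS hy)).symm
  fixV := fun w hw hS => fix w (le_cl _ _ hw) hS fun _ hy => (mem_centralizer_iff.1 hy w hw).symm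

/-- `D ∈ RR` -/
structure RR (S Z V D : Subgroup G) : Prop where
  ZD : Z ≤ D
  DV : D ≤ V
  odd : ¬ 2 ∣ (S ⊓ centralizer (D : Set G)).relIndex (centralizer (D : Set G))
  fix : ∀ w ∈ cl V (centralizer (Z : Set G)), (∀ t ∈ S ⊓ centralizer (D : Set G), t * w = w * t) →
    (∀ y ∈ centralizer (V : Set G), y * w = w * y) → ∀ c ∈ centralizer (D : Set G), c * w = w * c

/-- `D` is a closed point -/
structure Clo (S Z V D : Subgroup G) : Prop extends RR S Z V D where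
  clo : ∀ w ∈ V, (∀ t ∈ S ⊓ centralizer (D : Set G), t * w = w * t) → w ∈ D

/-- `d ∈ L(w) = [T, w]` -/
def InL (T : Subgroup G) (w d : G) : Prop := ∃ t ∈ T, t * w * t⁻¹ * w⁻¹ = d

/-- the good set `lam` of a closed point `D ≠ V`; `T = T_D = S ⊓ C_G(D)` -/
structure GoodAt (T V D lam T₀ : Subgroup G) : Prop where
  Dle : D ≤ lam
  leV : lam ≤ V
  comm : ∀ w ∈ lam, ∀ t ∈ T, t * w * t⁻¹ * w⁻¹ ∈ D
  stab : ∀ w ∈ lam, w ∉ D → ∀ t ∈ T, (t * w = w * t ↔ t ∈ T₀)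
  four : 4 * Nat.card D ≤ Nat.card lam
  inf : ∀ d : G, (∀ w ∈ lam, w ∉ D → InL T w d) → d = 1
  off : ∀ w ∈ lam, w ∉ D → ∀ ε : Subgroup G, ε ≤ T → (∀ a ∈ ε, a * a = 1) →
    ∀ N : Subgroup G, (∀ x, x ∈ N ↔ x ∈ V ∧ ∀ a ∈ ε, InL T w (a * x * a⁻¹ * x⁻¹)) →
      (centralizer (V : Set G)).relIndex ε ≤ N.relIndex V
  eq : ∀ w ∈ lam, w ∉ D → ∀ ε : Subgroup G, ε ≤ T → (∀ a ∈ ε, a * a = 1) →
    ∀ N : Subgroup G, (∀ x, x ∈ N ↔ x ∈ V ∧ ∀ a ∈ ε, InL T w (a * x * a⁻¹ * x⁻¹)) →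
      (centralizer (V : Set G)).relIndex ε = N.relIndex V → ∀ a ∈ ε, ∀ x ∈ V, a * x * a⁻¹ * x⁻¹ ∈ D
  sq : ∀ ε : Subgroup G, ε ≤ T → (∀ a ∈ ε, a * a = 1) →
    (centralizer (V : Set G)).relIndex ε ^ 2 ≤ (centralizer (ε : Set G)).relIndex V

end Cfsg.Agent.Omega.NO3b.ClosedPt
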