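import Cfsg.Agent.Omega.NO3b.Closed.Inst
import Cfsg.Agent.Omega.NO3b.K0.Bridge

/-!
# (NO) on an irreducible submodule for a minimal parabolic (for `ClosedPt.GoodAt`)

* `no_of_par` : `P` a minimal parabolic over its Sylow 2-subgroup `S`, `E` a `P`-irreducible elementary abelian
  subgroup not centralised by `O²(P)`, `O₂(P) ≤ C(V)` ⟹ `|ε : C_ε(V)| ≤ |E : C_E(ε)|` for elementary abelian `ε ≤ S`;
* `exists_good_of_par` : `ClosedPt.GoodAt` from this and `V = ⨁ U_i`, `U_i ≅ U_{i₀}` as `S`-modules.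
-/

set_option autoImplicit false

namespace Cfsg.Agent.Omega.NO3b.ClosedPow

open Subgroup Cfsg Cfsg.Agent.ZN Cfsg.Agent.ZN.ChoiceBase Cfsg.Agent.ZN.ChoiceSit
open Cfsg.Agent.MinSimple.MinParabolic (IsMinPar)
open Cfsg.Agent.MinSimple.VModule (oddGen oddGen_le mem_oddGen le_normalizer_oddGen oddGen_le_of_sup)
open Cfsg.Agent.Omega.NO3b.K0

universe u v

variable {G : Type u} [Group G] [Finite G]

theorem no_of_par (hA : FFBr.AStmt.{u}) {S P V E : Subgroup G} (hSyl : Syl S P) (hmin : IsMinPar S P)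
    (hEP : E ≤ P) (hsq : ∀ e ∈ E, e * e = 1) (hc : E ≤ centralizer (E : Set G)) (hPE : P ≤ normalizer (E : Set G))
    (irr : ∀ K : Subgroup G, K ≤ E → P ≤ normalizer (K : Set G) → K = ⊥ ∨ K = E)
    (hE : ¬ E ≤ centralizer (oddGen P : Set G)) (hV : o2 P ≤ centralizer (V : Set G)) {ε : Subgroup G}
    (hε : ε ≤ S) (hε2 : ∀ a ∈ ε, a * a = 1) :
    (centralizer (V : Set G)).relIndex ε ≤ (centralizer (ε : Set G)).relIndex E := by
  have h1 := noOv hA hSyl hmin ⊥ E ε (E ⊓ centralizer (ε : Set G)) bot_le hEP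
    (fun y hy => by rw [pow_two]; exact hsq y hy) hc
    (by
      intro x _
      rw [mem_normalizer_iff]
      intro y
      rw [mem_bot, mem_bot]
      constructor
      · rintro rfl; group
      · intro h0
        have e : y = x⁻¹ * (x * y * x⁻¹) * x := by group
        rw [e, h0]; group) hPE
    (fun K _ hK hPK => irr K hK hPK)
    (fun h0 => hE (commutator_eq_bot_iff_le_centralizer.1 (le_bot_iff.1 h0)))
    (hε.trans hSyl.1) (fun a ha => by rw [pow_two, hε2 a ha]; exact one_mem _)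
    (fun a ha b hb => by
      have h2 := hε2 _ (mul_mem ha hb)
      have e : a * b * a⁻¹ * b⁻¹ = 1 := by
        have ea : a⁻¹ = a := inv_eq_of_mul_eq_one_left (hε2 a ha)
        have eb : b⁻¹ = b := inv_eq_of_mul_eq_one_left (hε2 b hb)
        rw [ea, eb, mul_assoc (a * b)]
        exact h2
      rw [e]; exact one_mem _) inf_le_left
    (le_of_eq (commutator_eq_bot_iff_le_centralizer.2 (by
      intro x hx
      exact hx.2)))
  rw [inf_relIndex_left] at h1
  exact (relIndex_le_of_le_left hV index_ne_zero_of_finite).trans h1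

/-- **`ClosedPt.GoodAt` from `V = ⨁ U_i` over a minimal parabolic.** -/
theorem exists_good_of_par (hA : FFBr.AStmt.{u}) {ι : Type v} [Finite ι] {S P V D : Subgroup G}
    {U : ι → Subgroup G} (i₀ : ι) (hk : 2 ≤ Nat.card ι) (hSyl : Syl S P) (hmin : IsMinPar S P)
    (hS : ∀ i, S ≤ normalizer (U i : Set G)) (hVc : V ≤ centralizer (V : Set G)) (hsq : ∀ v ∈ V, v * v = 1)
    (hind : iSupIndep U) (hsup : ⨆ i, U i = V) (f : ∀ i, U i₀ ≃* U i)
    (hf : ∀ i, ∀ s ∈ S, ∀ u u' : U i₀, (u' : G) = s * u * s⁻¹ → (f i u' : G) = s * f i u * s⁻¹)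
    (hVS : V ≤ P) (hP : P ≤ normalizer (U i₀ : Set G))
    (irr : ∀ K : Subgroup G, K ≤ U i₀ → P ≤ normalizer (K : Set G) → K = ⊥ ∨ K = U i₀)
    (hE : ¬ U i₀ ≤ centralizer (oddGen P : Set G)) (hV : o2 P ≤ centralizer (V : Set G))
    (hne : D ≠ V) (hclo : ∀ w, w ∈ D ↔ w ∈ V ∧ ∀ t ∈ S ⊓ centralizer (D : Set G), t * w = w * t) :
    ∃ lam T₀ : Subgroup G, ClosedPt.GoodAt (S ⊓ centralizer (D : Set G)) V D lam T₀ := by
  obtain ⟨p, h⟩ := Pow.of_indep i₀ hS hVc hind hsup f hf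
  have hUV : U i₀ ≤ V := hsup ▸ le_iSup U i₀
  refine exists_good h hk hSyl.2.1 hsq (fun ε hε hε2 => ?_) hne hclo
  exact no_of_par hA hSyl hmin (hUV.trans hVS) (fun e he => hsq e (hUV he))
    ((hUV.trans hVc).trans (centralizer_le hUV)) hP irr hE hV hε hε2

end Cfsg.Agent.Omega.NO3b.ClosedPow
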