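import Cfsg.Agent.Omega.NO3b.Closed.CountB

/-!
# #19499 (2), (5): critical pairs, maximal pairs of closed points, both ends

* `Ch Lam C n x y` : the chambers `x`, `y` are joined by a gallery of length `n`;
* `Geo` : the hypotheses (`Flag`, `Lam ≤ N(V)`, (HZ), `⟨Lam, C_G(Z)⟩` nonlocal);
* `Geo.exists_crit`, `Geo.point` : a critical pair `(x, y)`: there is `u` with `V^u = V^y`,
  `W^x ≤ O₂(C^u) ∩ C(W^u)`;
* `MPair x y D' D` : a maximal pair of closed points; `MPair.symm`, `MPair.toEnd`, `MPair.disj`, `MPair.card`;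
* `Geo.exists_out` : **the output of #19499 (0), (2)-(5)**.
-/

set_option autoImplicit false

namespace Cfsg.Agent.Omega.NO3b.ClosedPt

open Subgroup Cfsg Cfsg.Agent.ZN Cfsg.Agent.ZN.ChoiceBase Cfsg.Agent.ZN.ChoiceSit
open Cfsg.Agent.Omega.NO3b.EZero
open Cfsg.Agent.Omega.ML.Final (MLK GDat)

universe u

variable {G : Type u} [Group G]

/-! ### chambers -/

/-- the chambers `x`, `y` are joined by a gallery of length `n` -/
inductive Ch (Lam C : Subgroup G) : ℕ → G → G → Prop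
  | zero (x : G) {l : G} (hl : l ∈ Lam) : Ch Lam C 0 x (x * l)
  | step {k : ℕ} {x y c l : G} (h : Ch Lam C k x y) (hc : c ∈ C) (hl : l ∈ Lam) : Ch Lam C (k + 1) x (y * c * l)

namespace Ch

variable {Lam C : Subgroup G} {k : ℕ} {x y c l : G}

theorem mul_right (h : Ch Lam C k x y) (hl : l ∈ Lam) : Ch Lam C k x (y * l) := by
  cases h with
  | zero x hl' => rw [mul_assoc]; exact zero _ (mul_mem hl' hl)
  | step h hc hl' => rw [mul_assoc]; exact step h hc (mul_mem hl' hl)

theorem mul_left (g : G) (h : Ch Lam C k x y) : Ch Lam C k (g * x) (g * y) := by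
  induction h with
  | zero x hl => rw [← mul_assoc]; exact zero _ hl
  | step h hc hl ih => rw [← mul_assoc, ← mul_assoc]; exact step ih hc hl

theorem cons_lam (h : Ch Lam C k x y) (hl : l ∈ Lam) : Ch Lam C k (x * l) y := by
  induction h with
  | @zero x l' hl' =>
    have h1 := zero (C := C) (x * l) (mul_mem (inv_mem hl) hl')
    have e : x * l * (l⁻¹ * l') = x * l' := by group
    rwa [e] at h1
  | step h hc hl' ih => exact step ih hc hl'

theorem cons_C (h : Ch Lam C k x y) (hc : c ∈ C) : Ch Lam C (k + 1) (x * c) y := by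
  induction h with
  | @zero x l' hl' =>
    have h1 := step (zero (C := C) (x * c) (one_mem Lam)) (inv_mem hc) hl'
    have e : x * c * 1 * c⁻¹ * l' = x * l' := by group
    rwa [e] at h1
  | step h hc' hl' ih => exact step ih hc' hl'

theorem symm (h : Ch Lam C k x y) : Ch Lam C k y x := by
  induction h with
  | @zero x l hl =>
    have h1 := zero (C := C) (x * l) (inv_mem hl)
    rwa [mul_inv_cancel_right] at h1
  | step h hc hl ih => exact (ih.cons_C hc).cons_lam hl

theorem exists_of_mem {g : G} (hg : g ∈ Lam ⊔ C) : ∃ n, Ch Lam C n 1 g := by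
  let P : G → Prop := fun g => ∀ x y n, Ch Lam C n x y → ∃ m, Ch Lam C m x (y * g)
  let K : Subgroup G :=
    { carrier := {g | P g ∧ P g⁻¹}
      one_mem' := by
        refine ⟨fun x y n h => ⟨n, by rwa [mul_one]⟩, fun x y n h => ⟨n, by rwa [inv_one, mul_one]⟩⟩
      mul_mem' := by
        rintro a b ⟨ha, ha'⟩ ⟨hb, hb'⟩
        constructor
        · intro x y n h
          obtain ⟨m, hm⟩ := ha x y n h
          obtain ⟨m', hm'⟩ := hb x _ m hm
          exact ⟨m', by rwa [← mul_assoc]⟩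
        · intro x y n h
          obtain ⟨m, hm⟩ := hb' x y n h
          obtain ⟨m', hm'⟩ := ha' x _ m hm
          exact ⟨m', by rwa [mul_inv_rev, ← mul_assoc]⟩
      inv_mem' := by
        rintro a ⟨ha, ha'⟩
        refine ⟨ha', ?_⟩
        rwa [inv_inv] }
  have h1 : ∀ l ∈ Lam, P l := fun l hl x y n h => ⟨n, h.mul_right hl⟩
  have h2 : ∀ c ∈ C, P c := fun c hc x y n h => ⟨n + 1, by
    have h3 := h.step hc (one_mem Lam)
    rwa [mul_one] at h3⟩
  have h3 : Lam ⊔ C ≤ K := sup_le (fun l hl => ⟨h1 l hl, h1 _ (inv_mem hl)⟩) fun c hc => ⟨h2 c hc, h2 _ (inv_mem hc)⟩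
  have h4 := (h3 hg).1 1 1 0 (by
    have := zero (C := C) (1 : G) (one_mem Lam)
    rwa [mul_one] at this)
  rwa [one_mul] at h4

end Ch

/-! ### critical pairs -/

/-- `W^x`, `W^y` commute -/
def Com (W : Subgroup G) (x y : G) : Prop := cj x W ≤ centralizer ((cj y W : Subgroup G) : Set G)

theorem Com.symm {W : Subgroup G} {x y : G} (h : Com W x y) : Com W y x := cent_symm h

theorem com_mul_left {W : Subgroup G} {g x y : G} (h : Com W x y) : Com W (g * x) (g * y) := by
  have h1 := cj_cent (g := g) h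
  rwa [cj_cj, cj_cj] at h1

/-- the hypotheses of #19499 (2) -/
structure Geo (S Z V Lam : Subgroup G) : Prop where
  flag : Flag S Z V
  ne : Z ≠ ⊥
  norm : Lam ≤ normalizer (V : Set G)
  hz : ∀ a b : G, cj a V ⊓ cj b V ≠ ⊥ → cj a V ≤ centralizer ((cj b V : Subgroup G) : Set G)
  nonloc : ∀ R : Subgroup G, IsPGroup 2 R → Lam ≤ normalizer (R : Set G) →
    centralizer (Z : Set G) ≤ normalizer (R : Set G) → R = ⊥

namespace Geo

variable {S Z V Lam : Subgroup G} (h : Geo S Z V Lam)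
include h

/-- a critical pair -/
theorem exists_crit [Finite G] : ∃ n x y, Ch Lam (centralizer (Z : Set G)) n x y ∧
    ¬ Com (cl V (centralizer (Z : Set G))) x y ∧ ∀ k < n, ∀ a b, Ch Lam (centralizer (Z : Set G)) k a b →
      Com (cl V (centralizer (Z : Set G))) a b := by
  classical
  set C := centralizer (Z : Set G) with hC
  set W := cl V C with hW
  have hex : ∃ n, ∃ x y, Ch Lam C n x y ∧ ¬ Com W x y := by
    by_contra hc
    push Not at hc
    set K := Lam ⊔ C with hK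
    have h1 : ∀ a ∈ K, ∀ b ∈ K, Com W a b := by
      intro a ha b hb
      obtain ⟨n, hn⟩ := Ch.exists_of_mem (mul_mem (inv_mem ha) hb)
      have h2 := com_mul_left (g := a) (hc n _ _ hn)
      rwa [mul_one, mul_inv_cancel_left] at h2
    have h2 : cl W K ≤ centralizer (cl W K : Set G) := by
      refine cl_le fun a ha => cent_symm (cl_le fun b hb => ?_)
      exact cent_symm (h1 a ha b hb)
    have h3 : ∀ r ∈ cl W K, r ^ 2 = 1 := sq_of_comm h2 (B := fun c : K => cj (c : G) W)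
      (fun c => cj_le_cl c.2) le_rfl (by
        rintro c _ ⟨x, hx, rfl⟩
        rw [← map_pow, pow_two, h.flag.Wsq x hx, map_one])
    have h4 : IsPGroup 2 (cl W K) := fun x => ⟨1, Subtype.ext (by
      rw [pow_one]
      exact h3 x x.2)⟩
    have h5 := h.nonloc _ h4 (le_sup_left.trans (le_normalizer_cl W K)) (le_sup_right.trans (le_normalizer_cl W K))
    apply h.ne
    rw [eq_bot_iff, ← h5]
    exact h.flag.ZV.trans ((le_cl V C).trans (le_cl W K))
  obtain ⟨x, y, h1, h2⟩ := Nat.find_spec hex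
  refine ⟨Nat.find hex, x, y, h1, h2, fun k hk a b hab => ?_⟩
  by_contra hc
  exact Nat.find_min hex hk ⟨a, b, hab, hc⟩

/-- one step of the walk -/
theorem walk [Finite G] {A : Subgroup G} {y l : G} (hl : l ∈ Lam)
    (hA : A ≤ o2 (cj y (centralizer (Z : Set G))))
    (hc : A ≤ centralizer ((cj (y * l) (cl V (centralizer (Z : Set G))) : Subgroup G) : Set G)) :
    A ≤ o2 (cj (y * l) (centralizer (Z : Set G))) := by
  set C := centralizer (Z : Set G) with hC
  set K := centralizer ((cj (y * l) (cl V C) : Subgroup G) : Set G) with hK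
  have hV : cj (y * l) V = cj y V := by rw [← cj_cj, mem_normalizer_iff_cj.1 (h.norm hl)]
  have hKV : K ≤ centralizer ((cj (y * l) V : Subgroup G) : Set G) := cent_mono (cj_mono _ (le_cl V C))
  have h1 : K ≤ cj y C := by
    rw [hC, cj_centralizer]
    rw [hV] at hKV
    exact hKV.trans (cent_mono (cj_mono _ h.flag.ZV))
  have h2 : K ≤ cj (y * l) C := by
    rw [hC, cj_centralizer]
    exact hKV.trans (cent_mono (cj_mono _ h.flag.ZV))
  have h3 : o2 (cj y C) ⊓ K ≤ o2 K :=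
    le_o2 ((isPGroup_o2 _).to_le inf_le_left) inf_le_right (norm_inf (h1.trans (le_normalizer_o2 _)) le_normalizer)
  exact (le_inf hA hc).trans (h3.trans (o2_le_of h2 (norm_cent (cj_norm (le_normalizer_cl V C)))))

theorem W_le_o2 : cl V (centralizer (Z : Set G)) ≤ o2 (centralizer (Z : Set G)) :=
  cl_le fun c hc => by
    have h1 := cj_mono c h.flag.Vo
    rwa [mem_normalizer_iff_cj.1 (le_normalizer_o2 _ hc)] at h1

omit h in
theorem cj_C {z c : G} (hc : c ∈ centralizer (Z : Set G)) :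
    cj (z * c) (centralizer (Z : Set G)) = cj z (centralizer (Z : Set G)) := by
  rw [← cj_cj, mem_normalizer_iff_cj.1 (le_normalizer hc)]

omit h in
theorem cj_W {z c : G} (hc : c ∈ centralizer (Z : Set G)) :
    cj (z * c) (cl V (centralizer (Z : Set G))) = cj z (cl V (centralizer (Z : Set G))) := by
  rw [← cj_cj, cj_cl hc]

theorem le_o2_of_ch [Finite G] {n : ℕ} (hmin : ∀ k < n, ∀ a b, Ch Lam (centralizer (Z : Set G)) k a b →
      Com (cl V (centralizer (Z : Set G))) a b) {k : ℕ} {x y : G} (hk : k < n)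
    (hxy : Ch Lam (centralizer (Z : Set G)) k x y) :
    cj x (cl V (centralizer (Z : Set G))) ≤ o2 (cj y (centralizer (Z : Set G))) := by
  induction hxy with
  | @zero x l hl =>
    refine h.walk hl ?_ (hmin _ hk _ _ (Ch.zero x hl))
    rw [o2_cj]
    exact cj_mono x h.W_le_o2
  | @step k x y c l hch hc hl ih =>
    refine h.walk hl ?_ (hmin _ hk _ _ (Ch.step hch hc hl))
    rw [cj_C hc]
    exact ih (by omega)

/-- the point before the end of a critical pair -/
theorem point [Finite G] {n : ℕ} {x y : G} (hmin : ∀ k < n, ∀ a b, Ch Lam (centralizer (Z : Set G)) k a b →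
      Com (cl V (centralizer (Z : Set G))) a b) (hxy : Ch Lam (centralizer (Z : Set G)) n x y) :
    ∃ u, cj u V = cj y V ∧ cj x (cl V (centralizer (Z : Set G))) ≤ o2 (cj u (centralizer (Z : Set G))) ∧
      Com (cl V (centralizer (Z : Set G))) x u := by
  cases hxy with
  | @zero _ l hl =>
    refine ⟨x, ?_, ?_, cj_cent h.flag.comm⟩
    · rw [← cj_cj, mem_normalizer_iff_cj.1 (h.norm hl)]
    · rw [o2_cj]
      exact cj_mono x h.W_le_o2
  | @step k _ z c l hch hc hl =>
    refine ⟨z * c, ?_, ?_, ?_⟩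
    · rw [← cj_cj (z * c) l, mem_normalizer_iff_cj.1 (h.norm hl)]
    · rw [cj_C hc]
      exact h.le_o2_of_ch hmin (Nat.lt_succ_self k) hch
    · unfold Com
      rw [cj_W hc]
      exact hmin k (Nat.lt_succ_self k) _ _ hch

end Geo

/-! ### maximal pairs -/

/-- a maximal pair of closed points `D'` (at `x`), `D` (at `y`) -/
structure MPair (S Z V : Subgroup G) (x y : G) (D' D : Subgroup G) : Prop where
  clo' : Clo S Z V D'
  clo : Clo S Z V D
  ho : ∃ u, cj u V = cj y V ∧ cj x (cl V (centralizer (Z : Set G))) ≤ o2 (cj u (centralizer (Z : Set G))) ∧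
    Com (cl V (centralizer (Z : Set G))) x u
  ho' : ∃ u, cj u V = cj x V ∧ cj y (cl V (centralizer (Z : Set G))) ≤ o2 (cj u (centralizer (Z : Set G))) ∧
    Com (cl V (centralizer (Z : Set G))) y u
  ne : ¬ cj x (cl V (centralizer (D' : Set G))) ≤
    centralizer ((cj y (cl V (centralizer (D : Set G))) : Subgroup G) : Set G)
  max : ∀ D₁' D₁, Clo S Z V D₁' → Clo S Z V D₁ → Nat.card D' * Nat.card D < Nat.card D₁' * Nat.card D₁ →
    cj x (cl V (centralizer (D₁' : Set G))) ≤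
      centralizer ((cj y (cl V (centralizer (D₁ : Set G))) : Subgroup G) : Set G)

theorem Geo.exists_mpair [Finite G] {S Z V Lam : Subgroup G} (h : Geo S Z V Lam) :
    ∃ x y D' D, MPair S Z V x y D' D := by
  classical
  obtain ⟨n, x, y, h1, h2, h3⟩ := h.exists_crit
  let A : Set (Subgroup G × Subgroup G) := {p | Clo S Z V p.1 ∧ Clo S Z V p.2 ∧
    ¬ cj x (cl V (centralizer (p.1 : Set G))) ≤
      centralizer ((cj y (cl V (centralizer (p.2 : Set G))) : Subgroup G) : Set G)}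
  have hfin : A.Finite := Set.toFinite A
  have hne : A.Nonempty := ⟨(Z, Z), h.flag.clo_Z, h.flag.clo_Z, h2⟩
  obtain ⟨p, hp, hmax⟩ := Set.exists_max_image A (fun p => Nat.card p.1 * Nat.card p.2) hfin hne
  refine ⟨x, y, p.1, p.2, hp.1, hp.2.1, h.point h3 h1, h.point h3 h1.symm, hp.2.2, ?_⟩
  intro D₁' D₁ hc1 hc2 hlt
  by_contra hc
  exact absurd (hmax (D₁', D₁) ⟨hc1, hc2, hc⟩) (not_le.2 hlt)

namespace MPair

variable {S Z V D' D : Subgroup G} {x y : G} (m : MPair S Z V x y D' D)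
include m

theorem symm : MPair S Z V y x D D' where
  clo' := m.clo
  clo := m.clo'
  ho := m.ho'
  ho' := m.ho
  ne := fun h => m.ne (cent_symm h)
  max := fun D₁' D₁ h1 h2 h3 => cent_symm (m.max D₁ D₁' h2 h1 (by rwa [mul_comm, mul_comm (Nat.card D₁)]))

/-- one end -/
theorem toEnd [Finite G] (fl : Flag S Z V) : End S Z V D (cj (y⁻¹ * x) (cl V (centralizer (D' : Set G)))) := by
  have hle : cl V (centralizer (D' : Set G)) ≤ cl V (centralizer (Z : Set G)) :=
    cl_le fun _ hp => cj_le_cl (m.clo'.CD_le hp)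
  have key : ∀ {A B : Subgroup G}, cj x A ≤ centralizer ((cj y B : Subgroup G) : Set G) ↔
      cj (y⁻¹ * x) A ≤ centralizer (B : Set G) := by
    intro A B
    constructor
    · intro h
      have h1 := cj_cent (g := y⁻¹) h
      rwa [cj_cj, cj_inv_cj] at h1
    · intro h
      have h1 := cj_cent (g := y) h
      rwa [cj_cj, mul_inv_cancel_left] at h1
  obtain ⟨u, hu, hux, huc⟩ := m.ho
  refine ⟨fl, m.clo, ?_, ?_, ⟨y⁻¹ * u, ?_, ?_⟩, fun h => m.ne (key.2 h), ?_⟩
  · rintro _ ⟨a, ha, rfl⟩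
    rw [← map_mul, fl.Wsq a (hle ha), map_one]
  · refine key.1 ?_
    rw [← hu]
    exact (cj_mono x hle).trans (huc.trans (cent_mono (cj_mono u (le_cl _ _))))
  · rw [← cj_cj, hu, cj_inv_cj]
  · have h1 := cj_mono y⁻¹ ((cj_mono x hle).trans hux)
    rw [cj_cj, ← o2_cj, cj_cj] at h1
    exact h1
  · intro D₁ hD₁ hlt
    refine key.1 (m.max D' D₁ m.clo' hD₁ ?_)
    refine Nat.mul_lt_mul_of_pos_left ?_ Nat.card_pos
    exact lt_of_le_of_ne (Subgroup.card_le_of_le hlt.le) fun h2 => hlt.ne (Subgroup.eq_of_le_of_card_ge hlt.le h2.ge)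

/-- `D ∩ D'^g = 1` -/
theorem disj (hz : ∀ a b : G, cj a V ⊓ cj b V ≠ ⊥ → cj a V ≤ centralizer ((cj b V : Subgroup G) : Set G)) :
    D ⊓ cj (y⁻¹ * x) D' = ⊥ := by
  by_contra hc
  apply m.ne
  have h1 : cj (y⁻¹ * x) (cl V (centralizer (D' : Set G))) ≤ centralizer (cl V (centralizer (D : Set G)) : Set G) := by
    rw [cl, cj_iSup]
    refine iSup_le fun c' => cent_symm (cl_le fun c hc2 => ?_)
    rw [cj_cj]
    refine hz _ _ fun h2 => hc ?_
    rw [eq_bot_iff, ← h2]
    refine inf_le_inf ?_ ?_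
    · have h3 := cj_mono c m.clo.DV
      rwa [mem_normalizer_iff_cj.1 (centralizer_le_normalizer _ hc2)] at h3
    · rw [← cj_cj (y⁻¹ * x) (c' : G)]
      refine cj_mono _ ?_
      have h3 := cj_mono (c' : G) m.clo'.DV
      rwa [mem_normalizer_iff_cj.1 (centralizer_le_normalizer _ c'.2)] at h3
  have h2 := cj_cent (g := y) h1
  rwa [cj_cj, mul_inv_cancel_left] at h2

end MPair

/-- sections of K-groups -/
theorem kgroup_cent {D Z : Subgroup G} (h : centralizer (D : Set G) ≤ centralizer (Z : Set G))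
    (hK : IsKGroup (centralizer (Z : Set G))) : IsKGroup (centralizer (D : Set G)) :=
  ML.Final.kgroup_of_surj hK ((centralizer (D : Set G)).subgroupOf (centralizer (Z : Set G)))
    (subgroupOfEquivOfLe h).toMonoidHom (subgroupOfEquivOfLe h).surjective

/-- `E` is the same for all good `v` -/
theorem End.E_eq [Finite G] {S Z V D B lam T₀ : Subgroup G} (e : End S Z V D B)
    (g : GoodAt (S ⊓ centralizer (D : Set G)) V D lam T₀) {v w : G} (hv : v ∈ lam) (hvD : v ∉ D) (hw : w ∈ lam)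
    (hwD : w ∉ D) : e.E v = e.E w := by
  have h1 : ∀ {v : G}, v ∈ lam → v ∉ D → S ⊓ centralizer ((D ⊔ zpowers v : Subgroup G) : Set G) =
      (S ⊓ centralizer (D : Set G)) ⊓ T₀ := by
    intro v hv hvD
    ext t
    rw [mem_inf, mem_cent_sup, mem_inf, mem_inf]
    constructor
    · rintro ⟨a, b, c⟩
      exact ⟨⟨a, b⟩, (g.stab v hv hvD t ⟨a, b⟩).1 c⟩
    · rintro ⟨⟨a, b⟩, c⟩
      exact ⟨a, b, (g.stab v hv hvD t ⟨a, b⟩).2 c⟩
  have h2 : sv D v = sv D w := by
    rw [e.clo.c2 e.flag (g.leV hv) (g.comm v hv), e.clo.c2 e.flag (g.leV hw) (g.comm w hw), plus, plus,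
      h1 hv hvD, h1 hw hwD]
  ext a
  rw [e.mem_E_iff (g.leV hv), e.mem_E_iff (g.leV hw), h2]

/-- `D₊` is the same for all good `v` -/
theorem plus_eq {S V D lam T₀ : Subgroup G}
    (g : GoodAt (S ⊓ centralizer (D : Set G)) V D lam T₀) {v : G} (hv : v ∈ lam) (hvD : v ∉ D) :
    plus S V D v = V ⊓ centralizer (((S ⊓ centralizer (D : Set G)) ⊓ T₀ : Subgroup G) : Set G) := by
  have h1 : S ⊓ centralizer ((D ⊔ zpowers v : Subgroup G) : Set G) = (S ⊓ centralizer (D : Set G)) ⊓ T₀ := by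
    ext t
    rw [mem_inf, mem_cent_sup, mem_inf, mem_inf]
    constructor
    · rintro ⟨a, b, c⟩
      exact ⟨⟨a, b⟩, (g.stab v hv hvD t ⟨a, b⟩).1 c⟩
    · rintro ⟨⟨a, b⟩, c⟩
      exact ⟨a, b, (g.stab v hv hvD t ⟨a, b⟩).2 c⟩
  rw [plus, h1]

theorem exists_of_good {T V D lam T₀ : Subgroup G} [Finite G] (g : GoodAt T V D lam T₀) : ∃ v ∈ lam, v ∉ D := by
  by_contra hc
  push Not at hc
  have h1 := Subgroup.card_le_of_le (show lam ≤ D from hc)
  have h2 := g.four
  have h3 : 0 < Nat.card D := Nat.card_pos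
  omega

/-- **the output of #19499 (0), (2)-(5)**: the exact end -/
structure Out {S Z V D B : Subgroup G} (e : End S Z V D B) (lam T₀ : Subgroup G) : Prop where
  good : GoodAt (S ⊓ centralizer (D : Set G)) V D lam T₀
  ex : ∀ v ∈ lam, v ∉ D → e.Exact v
  lt : ∀ v ∈ lam, v ∉ D → e.CD.relIndex (cl V (centralizer (D : Set G))) < (e.E v).relIndex B ^ 2
  eq : ∀ v ∈ lam, v ∉ D → ∀ w ∈ lam, w ∉ D → e.E v = e.E w

/-- both ends of a maximal pair -/
theorem MPair.both [Finite G] {S Z V D' D : Subgroup G} {x y : G} (m : MPair S Z V x y D' D) (fl : Flag S Z V)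
    (hz : ∀ a b : G, cj a V ⊓ cj b V ≠ ⊥ → cj a V ≤ centralizer ((cj b V : Subgroup G) : Set G))
    (ml : MLK.{u, u}) (hK : IsKGroup (centralizer (Z : Set G)))
    (good : ∀ D, Clo S Z V D → D ≠ V → ∃ lam T₀, GoodAt (S ⊓ centralizer (D : Set G)) V D lam T₀) :
    (∃ lam T₀, Out (m.toEnd fl) lam T₀) ∨ ∃ lam T₀, Out (m.symm.toEnd fl) lam T₀ := by
  set g := y⁻¹ * x with hg
  have hg' : x⁻¹ * y = g⁻¹ := by rw [hg]; group
  have e := m.toEnd fl
  have e' := m.symm.toEnd fl
  obtain ⟨lam, T₀, gd⟩ := good D m.clo e.D_ne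
  obtain ⟨lam', T₀', gd'⟩ := good D' m.clo' e'.D_ne
  obtain ⟨v, hvl, hvD⟩ := exists_of_good gd
  obtain ⟨v', hvl', hvD'⟩ := exists_of_good gd'
  have hKD := kgroup_cent m.clo.CD_le hK
  have hKD' := kgroup_cent m.clo'.CD_le hK
  have c1 := (e.chain ml hKD gd hvl hvD).1
  have c2 := (e'.chain ml hKD' gd' hvl' hvD').1
  set W := cl V (centralizer (D : Set G)) with hW
  set W' := cl V (centralizer (D' : Set G)) with hW'
  -- transfer
  have t1 : (centralizer (W' : Set G)).relIndex (cj (x⁻¹ * y) W) =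
      (centralizer ((cj g W' : Subgroup G) : Set G)).relIndex W := by
    rw [← relIndex_cj g, cj_centralizer, cj_cj, hg', mul_inv_cancel, cj_one]
  have t2 : (centralizer ((cj (x⁻¹ * y) W : Subgroup G) : Set G)).relIndex W' =
      (centralizer (W : Set G)).relIndex (cj g W') := by
    rw [← relIndex_cj g, cj_centralizer, cj_cj, hg', mul_inv_cancel, cj_one]
  have ex : ∀ v ∈ lam, v ∉ D → e.Exact v := fun v hv hvD => e.exact_of ml hKD gd hv hvD (by
    rw [t1, t2] at c2
    exact c2)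
  have ex' : ∀ v ∈ lam', v ∉ D' → e'.Exact v := fun v hv hvD => e'.exact_of ml hKD' gd' hv hvD (by
    change (centralizer ((cj (x⁻¹ * y) W : Subgroup G) : Set G)).relIndex W' ≤
      (centralizer (W' : Set G)).relIndex (cj (x⁻¹ * y) W)
    rw [t1, t2]
    exact c1)
  -- one end
  have E1 := ex v hvl hvD
  have E2 := ex' v' hvl' hvD'
  rcases E1.five with h1 | ⟨h1, h1'⟩
  · left
    refine ⟨lam, T₀, gd, ex, fun w hw hwD => ?_, fun v hv hvD w hw hwD => e.E_eq gd hv hvD hw hwD⟩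
    rw [e.E_eq gd hw hwD hvl hvD]
    exact h1
  rcases E2.five with h2 | ⟨h2, h2'⟩
  · right
    refine ⟨lam', T₀', gd', ex', fun w hw hwD => ?_, fun v hv hvD w hw hwD => e'.E_eq gd' hv hvD hw hwD⟩
    rw [e'.E_eq gd' hw hwD hvl' hvD']
    exact h2
  exfalso
  have h3 : e'.E v' ≤ centralizer (W' : Set G) := by
    intro b hb
    have hbB : b ∈ cj (x⁻¹ * y) W := e'.E_le_B hb
    have hb' : g * b * g⁻¹ ∈ W := by
      have h4 := mem_cj.1 hbB
      rw [hg'] at h4
      rwa [inv_inv] at h4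
    have h5 : g * b * g⁻¹ ∈ centralizer (e.E v : Set G) := by
      refine mem_centralizer_iff.2 fun a ha => ?_
      have h6 : a * (g * b * g⁻¹) * a⁻¹ * (g * b * g⁻¹)⁻¹ ∈ D := E1.ED a ha _ hb'
      have haB : g⁻¹ * a * g ∈ W' := mem_cj.1 (e.E_le_B ha)
      have h7 : b * (g⁻¹ * a * g) * b⁻¹ * (g⁻¹ * a * g)⁻¹ ∈ D' := E2.ED b hb _ haB
      have h8 : a * (g * b * g⁻¹) * a⁻¹ * (g * b * g⁻¹)⁻¹ ∈ cj g D' := by
        rw [mem_cj]
        have e1 : g⁻¹ * (a * (g * b * g⁻¹) * a⁻¹ * (g * b * g⁻¹)⁻¹) * g =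
          (b * (g⁻¹ * a * g) * b⁻¹ * (g⁻¹ * a * g)⁻¹)⁻¹ := by group
        rw [e1]
        exact inv_mem h7
      have h9 := m.disj hz
      have h10 : a * (g * b * g⁻¹) * a⁻¹ * (g * b * g⁻¹)⁻¹ ∈ D ⊓ cj (y⁻¹ * x) D' := ⟨h6, h8⟩
      rw [h9, mem_bot] at h10
      calc a * (g * b * g⁻¹) = a * (g * b * g⁻¹) * a⁻¹ * (g * b * g⁻¹)⁻¹ * ((g * b * g⁻¹) * a) := by group
        _ = (g * b * g⁻¹) * a := by rw [h10, one_mul]
    have h6 := h1' ⟨hb', h5⟩
    refine mem_centralizer_iff.2 fun w hw => ?_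
    have h7 := mem_centralizer_iff.1 h6 (g * w * g⁻¹) (mem_cj_self hw)
    have e1 : g * w * g⁻¹ * (g * b * g⁻¹) = g * (w * b) * g⁻¹ := by group
    have e2 : g * b * g⁻¹ * (g * w * g⁻¹) = g * (b * w) * g⁻¹ := by group
    rw [e1, e2] at h7
    exact mul_left_cancel (mul_right_cancel h7)
  rw [relIndex_eq_one.2 h3] at h2
  exact lt_irrefl _ h2

/-- **#19499 (0), (2)-(5)** -/
theorem Geo.exists_out [Finite G] {S Z V Lam : Subgroup G} (h : Geo S Z V Lam) (ml : MLK.{u, u})
    (hK : IsKGroup (centralizer (Z : Set G)))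
    (good : ∀ D, Clo S Z V D → D ≠ V → ∃ lam T₀, GoodAt (S ⊓ centralizer (D : Set G)) V D lam T₀) :
    ∃ (D B : Subgroup G) (e : End S Z V D B) (lam T₀ : Subgroup G), Out e lam T₀ := by
  obtain ⟨x, y, D', D, m⟩ := h.exists_mpair
  rcases m.both h.flag h.hz ml hK good with ⟨lam, T₀, o⟩ | ⟨lam, T₀, o⟩
  · exact ⟨_, _, _, lam, T₀, o⟩
  · exact ⟨_, _, _, lam, T₀, o⟩

end Cfsg.Agent.Omega.NO3b.ClosedPt
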