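import Cfsg.Agent.Omega.NO3b.Closed.Point

/-!
# #19499: the strong form of `RR.fix`

If every `w ∈ W = ⟨V^C⟩`, `C = C_G(Z)`, fixed by `S` is centralised by `C`, then for every `D ∈ RR` every `w ∈ W`
fixed by `T_D = C_S(D)` is centralised by `C_G(D)` (`RR.strong`; the hypothesis on `C_G(V)` in `RR.fix` is automatic
by the trace lemma for `X = C_G(V)`), and `C_W(T_D ∩ X₀)` is centralised by `X₀` for every `X₀ ≤ C_G(D)` normalised by
`T_D` (`RR.tr0`).
-/

set_option autoImplicit false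

namespace Cfsg.Agent.Omega.NO3b.ClosedPt

open Subgroup Cfsg Cfsg.Agent.ZN Cfsg.Agent.ZN.ChoiceBase Cfsg.Agent.ZN.ChoiceSit
open Cfsg.Agent.Omega.NO3b.EZero

universe u

variable {G : Type u} [Group G] {S Z V D : Subgroup G}

/-- `C_W(S)` is centralised by `C_G(Z)`, `W = ⟨V^{C_G(Z)}⟩`. -/
def FixS (S Z V : Subgroup G) : Prop :=
  ∀ w ∈ cl V (centralizer (Z : Set G)), (∀ s ∈ S, s * w = w * s) → ∀ c ∈ centralizer (Z : Set G), c * w = w * c

/-- `C_W(S) = Z` gives `FixS`. -/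
theorem FixS.of_le (h : ∀ w ∈ cl V (centralizer (Z : Set G)), (∀ s ∈ S, s * w = w * s) → w ∈ Z) : FixS S Z V :=
  fun w hw hs _ hc => (mem_centralizer_iff.1 hc w (h w hw hs)).symm

/-- `C_W(C_S(V))` is centralised by `C_G(V)` -/
theorem Flag.cent_V [Finite G] (h : Flag S Z V) (hs : FixS S Z V) {w : G}
    (hw : w ∈ cl V (centralizer (Z : Set G))) (hf : ∀ t ∈ S ⊓ centralizer (V : Set G), t * w = w * t) :
    ∀ y ∈ centralizer (V : Set G), y * w = w * y := by
  have hVC : centralizer (V : Set G) ≤ centralizer (Z : Set G) := cent_mono h.ZV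
  exact trace h.Wcomm h.Wsq (hVC.trans (le_normalizer_cl _ _)) h.two (h.SC.trans (le_normalizer_cl _ _))
    (norm_cent h.SV) (odd_inf (norm_cent h.SV) h.SC hVC (syl_not_dvd h.syl))
    (fun w hw hS x hx => hs w hw hS x (hVC hx)) w hw hf

/-- **the strong form of `RR.fix`** -/
theorem RR.strong [Finite G] (r : RR S Z V D) (h : Flag S Z V) (hs : FixS S Z V) :
    ∀ w ∈ cl V (centralizer (Z : Set G)), (∀ t ∈ S ⊓ centralizer (D : Set G), t * w = w * t) →
      ∀ c ∈ centralizer (D : Set G), c * w = w * c := fun w hw hf =>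
  r.fix w hw hf (h.cent_V hs hw fun t ht => hf t ⟨ht.1, cent_mono r.DV ht.2⟩)

/-- **(TR0)** for `X₀ ≤ C_G(D)` normalised by `T_D` -/
theorem RR.tr0 [Finite G] (r : RR S Z V D) (h : Flag S Z V) (hs : FixS S Z V) {X₀ : Subgroup G}
    (hX : X₀ ≤ centralizer (D : Set G)) (hT : S ⊓ centralizer (D : Set G) ≤ normalizer (X₀ : Set G)) :
    ∀ w ∈ cl V (centralizer (Z : Set G)), (∀ t ∈ (S ⊓ centralizer (D : Set G)) ⊓ X₀, t * w = w * t) →
      ∀ x ∈ X₀, x * w = w * x :=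
  trace h.Wcomm h.Wsq ((hX.trans r.CD_le).trans (le_normalizer_cl _ _)) (h.two.to_le inf_le_left)
    ((inf_le_right.trans r.CD_le).trans (le_normalizer_cl _ _)) hT (odd_inf hT inf_le_right hX r.odd)
    fun w hw hf x hx => r.strong h hs w hw hf x (hX hx)

/-- `C_G(D)` acts on `⟨V^{C_G(D)}⟩ ≤ ⟨V^{C_G(Z)}⟩` -/
theorem RR.cl_le_cl (r : RR S Z V D) : cl V (centralizer (D : Set G)) ≤ cl V (centralizer (Z : Set G)) :=
  cl_le fun _ hc => cj_le_cl (r.CD_le hc)

end Cfsg.Agent.Omega.NO3b.ClosedPt
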