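import Cfsg.Agent.Omega.NO3b.Closed.Count

/-!
# #19499 (4), (5): the count

* `End.card_le` : `|B : C_B(W_D)| ≤ |W_D : C_{W_D}(B)|`;
* `End.of_eq` : the case of equality: `B` is exact on `W^v / D` with full preimage, `[E, W_D] ≤ D`, `e ≤ x`;
* `End.five` : `|W_D : {w : [w, B] ≤ D}| < |B : E|²`, or `e = x > 0` and `C_{W_D}(E) = C_{W_D}(B)`.
-/

set_option autoImplicit false

namespace Cfsg.Agent.Omega.NO3b.ClosedPt

open Subgroup Cfsg Cfsg.Agent.ZN Cfsg.Agent.ZN.ChoiceBase Cfsg.Agent.ZN.ChoiceSit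
open Cfsg.Agent.Omega.NO3b.EZero
open Cfsg.Agent.Omega.ML.Final (MLK GDat)

universe u

variable {G : Type u} [Group G]

/-- conjugation by an element centralising `D` does not change `InL` -/
theorem inL_conj {T D : Subgroup G} {v c d : G} (hv : ∀ t ∈ T, t * v * t⁻¹ * v⁻¹ ∈ D)
    (hc : c ∈ centralizer (D : Set G)) : InL T v (c * d * c⁻¹) ↔ InL T v d := by
  have key : ∀ {c d : G}, c ∈ centralizer (D : Set G) → InL T v d → c * d * c⁻¹ = d := by
    rintro c d hc ⟨t, ht, rfl⟩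
    rw [← mem_centralizer_iff.1 hc _ (hv t ht)]
    group
  constructor
  · intro h
    have h1 := key (inv_mem hc) h
    have e1 : c⁻¹ * (c * d * c⁻¹) * c⁻¹⁻¹ = d := by group
    rw [e1] at h1
    rw [h1]
    exact h
  · intro h
    rw [key hc h]
    exact h

section loc

variable {S V D lam T₀ T W F N : Subgroup G} {v c : G}

/-- the transfer of `{x ∈ V^c : [F, x] ⊆ L(v)}` to `V` -/
theorem conj_N (hv : ∀ t ∈ T, t * v * t⁻¹ * v⁻¹ ∈ D) (hc : c ∈ centralizer (D : Set G)) (hW : cj c V ≤ W)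
    (hN : ∀ x, x ∈ N ↔ x ∈ W ∧ ∀ a ∈ F, InL T v (a * x * a⁻¹ * x⁻¹)) :
    ∀ x, x ∈ cj c⁻¹ (N ⊓ cj c V) ↔ x ∈ V ∧ ∀ a ∈ cj c⁻¹ F, InL T v (a * x * a⁻¹ * x⁻¹) := by
  intro x
  rw [mem_cj, inv_inv, mem_inf, hN, mem_cj]
  have e1 : c⁻¹ * (c * x * c⁻¹) * c = x := by group
  rw [e1]
  constructor
  · rintro ⟨⟨-, h1⟩, h2⟩
    refine ⟨h2, fun a ha => ?_⟩
    have h3 := h1 _ (mem_cj.1 ha)
    rw [inv_inv] at h3
    have e2 : c * a * c⁻¹ * (c * x * c⁻¹) * (c * a * c⁻¹)⁻¹ * (c * x * c⁻¹)⁻¹ = c * (a * x * a⁻¹ * x⁻¹) * c⁻¹ := by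
      group
    rw [e2] at h3
    exact (inL_conj hv hc).1 h3
  · rintro ⟨h1, h2⟩
    refine ⟨⟨hW (mem_cj_self h1), fun a ha => ?_⟩, h1⟩
    have h3 := h2 (c⁻¹ * a * c) (by
      rw [mem_cj, inv_inv]
      have e3 : c * (c⁻¹ * a * c) * c⁻¹ = a := by group
      rwa [e3])
    have e2 : a * (c * x * c⁻¹) * a⁻¹ * (c * x * c⁻¹)⁻¹ =
      c * (c⁻¹ * a * c * x * (c⁻¹ * a * c)⁻¹ * x⁻¹) * c⁻¹ := by group
    rw [e2]
    exact (inL_conj hv hc).2 h3

theorem rel_conj_cent : (centralizer (V : Set G)).relIndex (cj c⁻¹ F) =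
    (centralizer (cj c V : Set G)).relIndex F := by
  rw [← relIndex_cj c, cj_cj_inv, cj_centralizer]

theorem rel_conj_N : (cj c⁻¹ (N ⊓ cj c V)).relIndex V = N.relIndex (cj c V) := by
  rw [← relIndex_cj c, cj_cj_inv, inf_relIndex_right]

theorem cj_sq (hsq : ∀ a ∈ F, a * a = 1) : ∀ a ∈ cj c⁻¹ F, a * a = 1 := by
  rintro _ ⟨a, ha, rfl⟩
  rw [← map_mul, hsq a ha, map_one]

variable (g : GoodAt T V D lam T₀) (hT : T ≤ centralizer (D : Set G)) (hvl : v ∈ lam) (hvD : v ∉ D)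
  (hc : c ∈ centralizer (D : Set G)) (hF : F ≤ cj c T) (hsq : ∀ a ∈ F, a * a = 1) (hW : cj c V ≤ W)
  (hN : ∀ x, x ∈ N ↔ x ∈ W ∧ ∀ a ∈ F, InL T v (a * x * a⁻¹ * x⁻¹))
include g hvl hvD hc hF hsq hW hN

theorem loc_off : (centralizer (cj c V : Set G)).relIndex F ≤ N.relIndex (cj c V) := by
  have h1 : cj c⁻¹ F ≤ T := by
    have := cj_mono c⁻¹ hF
    rwa [cj_inv_cj] at this
  have h2 := g.off v hvl hvD _ h1 (cj_sq hsq) _ (conj_N (g.comm v hvl) hc hW hN)
  rwa [rel_conj_cent, rel_conj_N] at h2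

theorem loc_eq (he : (centralizer (cj c V : Set G)).relIndex F = N.relIndex (cj c V)) :
    ∀ a ∈ F, ∀ x ∈ cj c V, a * x * a⁻¹ * x⁻¹ ∈ D := by
  have h1 : cj c⁻¹ F ≤ T := by
    have := cj_mono c⁻¹ hF
    rwa [cj_inv_cj] at this
  have h2 := g.eq v hvl hvD _ h1 (cj_sq hsq) _ (conj_N (g.comm v hvl) hc hW hN)
  rw [rel_conj_cent, rel_conj_N] at h2
  intro a ha x hx
  have h3 := h2 he (c⁻¹ * a * c) (by
      rw [mem_cj, inv_inv]
      have e3 : c * (c⁻¹ * a * c) * c⁻¹ = a := by group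
      rwa [e3]) _ (mem_cj.1 hx)
  have h4 := mem_centralizer_iff.1 hc _ h3
  have e1 : a * x * a⁻¹ * x⁻¹ = c * (c⁻¹ * a * c * (c⁻¹ * x * c) * (c⁻¹ * a * c)⁻¹ * (c⁻¹ * x * c)⁻¹) * c⁻¹ := by
    group
  rw [e1, ← h4]
  have e2 : c⁻¹ * a * c * (c⁻¹ * x * c) * (c⁻¹ * a * c)⁻¹ * (c⁻¹ * x * c)⁻¹ * c * c⁻¹ =
    c⁻¹ * a * c * (c⁻¹ * x * c) * (c⁻¹ * a * c)⁻¹ * (c⁻¹ * x * c)⁻¹ := by group
  rwa [e2]

omit hvl hvD hc hW hN in
theorem loc_sq : (centralizer (cj c V : Set G)).relIndex F ^ 2 ≤ (centralizer (F : Set G)).relIndex (cj c V) := by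
  have h1 : cj c⁻¹ F ≤ T := by
    have := cj_mono c⁻¹ hF
    rwa [cj_inv_cj] at this
  have h2 := g.sq _ h1 (cj_sq hsq)
  rw [rel_conj_cent, ← relIndex_cj c (centralizer _) V, cj_centralizer, cj_cj_inv] at h2
  exact h2

end loc

namespace End

variable {S Z V D B lam T₀ : Subgroup G} (e : End S Z V D B)
include e

theorem B_norm : B ≤ normalizer (cl V (centralizer (D : Set G)) : Set G) :=
  e.B_cent.trans (le_normalizer_cl _ _)

variable {v : G} (g : GoodAt (S ⊓ centralizer (D : Set G)) V D lam T₀) (hvl : v ∈ lam) (hvD : v ∉ D)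

/-- `{w ∈ W_D : [E, w] ⊆ L}` -/
def NL (e : End S Z V D B) (v : G) (L F : Subgroup G) : Subgroup G :=
  cw (cl V (centralizer (D : Set G))) (F ⊓ e.E v) L e.WD_comm (inf_le_right.trans (e.E_le_B.trans e.B_norm))

theorem mem_NL {L F : Subgroup G} {x : G} : x ∈ e.NL v L F ↔
    x ∈ cl V (centralizer (D : Set G)) ∧ ∀ a ∈ F ⊓ e.E v, a * x * a⁻¹ * x⁻¹ ∈ L := Iff.rfl

/-- `{x ∈ W^v : [B, x] ≤ D}` -/
def CW (e : End S Z V D B) (v : G) (hv : v ∈ V) : Subgroup G :=
  cw (Wv D v) B D (fun a ha b hb => e.WD_comm a (e.Wv_le_WD hv ha) b (e.Wv_le_WD hv hb))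
    (e.B_cent.trans norm_Wv)

theorem mem_CW {hv : v ∈ V} {x : G} : x ∈ e.CW v hv ↔ x ∈ Wv D v ∧ ∀ a ∈ B, a * x * a⁻¹ * x⁻¹ ∈ D := Iff.rfl

/-! ### the six inequalities -/

theorem a1 (hv : v ∈ V) : (centralizer (cl V (centralizer (D : Set G)) : Set G)).relIndex B =
    (centralizer (cl V (centralizer (D : Set G)) : Set G)).relIndex (e.E v) * (e.E v).relIndex B := by
  have h1 : centralizer (cl V (centralizer (D : Set G)) : Set G) ⊓ B ≤ e.E v := by
    rintro b ⟨hb, hbB⟩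
    refine ⟨hbB, fun x hx => ?_⟩
    have h2 := mem_centralizer_iff.1 hb x (e.Wv_le_WD hv hx)
    have e1 : b * x * b⁻¹ * x⁻¹ = 1 := by rw [← h2]; group
    rw [e1]
    exact one_mem _
  have h2 := relIndex_mul_relIndex _ _ _ h1 e.E_le_B
  rw [inf_relIndex_right] at h2
  rw [← h2]
  congr 1
  refine rel_congr ?_
  rw [inf_assoc, inf_eq_right.2 e.E_le_B]

theorem a2 (hv : v ∈ V) : (centralizer (B : Set G)).relIndex (cl V (centralizer (D : Set G))) =
    (cl V (centralizer (D : Set G)) ⊓ centralizer (B : Set G)).relIndex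
      (Wv D v ⊔ (cl V (centralizer (D : Set G)) ⊓ centralizer (B : Set G))) *
    (Wv D v ⊔ (cl V (centralizer (D : Set G)) ⊓ centralizer (B : Set G))).relIndex
      (cl V (centralizer (D : Set G))) := by
  rw [relIndex_mul_relIndex _ _ _ le_sup_right (sup_le (e.Wv_le_WD hv) inf_le_left), inf_relIndex_left]

theorem a3 [Finite G] (hv : v ∈ V) : (centralizer (B : Set G)).relIndex (Wv D v) ≤
    (cl V (centralizer (D : Set G)) ⊓ centralizer (B : Set G)).relIndex
      (Wv D v ⊔ (cl V (centralizer (D : Set G)) ⊓ centralizer (B : Set G))) := by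
  refine le_trans (le_of_eq (rel_congr ?_)) (rel_right le_sup_left _)
  rw [inf_comm (cl V _) (centralizer _), inf_assoc, inf_eq_right.2 (e.Wv_le_WD hv)]

theorem a4 [Finite G] (hv : v ∈ V) :
    (e.CW v hv).relIndex (Wv D v) ≤ (centralizer (B : Set G)).relIndex (Wv D v) := by
  rw [← inf_relIndex_right (centralizer _)]
  refine rel_left ?_ _
  rintro x ⟨hx, hxW⟩
  refine ⟨hxW, fun a ha => ?_⟩
  have h2 := mem_centralizer_iff.1 hx a ha
  have e1 : a * x * a⁻¹ * x⁻¹ = 1 := by rw [h2]; group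
  rw [e1]
  exact one_mem _

/-- **(ML)** -/
theorem a5 [Finite G] (ml : MLK.{u, u}) (hK : IsKGroup (centralizer (D : Set G))) (hv : v ∈ V) (hvD : v ∉ D)
    (hvT : ∀ t ∈ S ⊓ centralizer (D : Set G), t * v * t⁻¹ * v⁻¹ ∈ D) :
    (e.E v).relIndex B ≤ (e.CW v hv).relIndex (Wv D v) := by
  have hc2 := e.clo.c2 e.flag hv hvT
  refine ml.grp (T := S ⊓ centralizer (D : Set G)) (Y := D) (w := v)
    (Q := o2 (centralizer (plus S V D v : Set G) ⊔ (S ⊓ centralizer (D : Set G)))) hK ?_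
    (fun a => Iff.rfl) (fun x => Iff.rfl)
  exact {
    nW := norm_Wv
    nY := centralizer_le_normalizer _
    YW := D_le_Wv
    WY := fun x hx => centralizer_le_normalizer _ (mem_centralizer_iff.2 fun d hd =>
      e.WD_comm d (e.D_le_WD hd) x (e.Wv_le_WD hv hx))
    sq := fun x hx => by
      rw [e.flag.Wsq x (e.WD_le (e.Wv_le_WD hv hx))]
      exact one_mem _
    mem := mem_Wv
    gen := fun U h1 h2 h3 => Wv_le h2 fun c hc => cj_mem h3 hc h1
    TC := inf_le_right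
    two := e.flag.two.to_le inf_le_left
    odd := e.clo.odd
    fixT := hvT
    QC := (o2_le _).trans (by rw [← hc2]; exact fun c hc => hc.1)
    Q2 := isPGroup_o2 _
    fixQ := fun q hq => by
      have h1 := o2_le _ hq
      rw [← hc2] at h1
      exact h1.2
    nrmQ := fun x hx hxv q hq => by
      have h1 : x ∈ sv D v := ⟨hx, hxv⟩
      rw [hc2] at h1
      exact cj_mem (le_normalizer_o2 _) h1 hq
    AQ := e.le_Q hv hvD hvT
    Asq := fun a ha x hx => by
      have e1 : a * (a * x * a⁻¹) * a⁻¹ * x⁻¹ = (a * a) * x * (a * a)⁻¹ * x⁻¹ := by group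
      rw [e1, e.Bsq a ha]
      simp }

theorem Wv_le_NL [Finite G] {L : Subgroup G} (hL : ∀ d, d ∈ L ↔ InL (S ⊓ centralizer (D : Set G)) v d)
    (hv : v ∈ V) (hvD : v ∉ D) (hvT : ∀ t ∈ S ⊓ centralizer (D : Set G), t * v * t⁻¹ * v⁻¹ ∈ D) :
    Wv D v ≤ e.NL v L (e.E v) := by
  refine Wv_le (fun d hd => ⟨e.D_le_WD hd, fun a ha => ?_⟩) fun c hc =>
    ⟨e.Wv_le_WD hv (cj_mem_Wv hc), fun a ha => ?_⟩
  · have h1 := mem_centralizer_iff.1 (e.B_cent (e.E_le_B ha.2)) d hd
    have e1 : a * d * a⁻¹ * d⁻¹ = 1 := by rw [← h1]; group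
    rw [e1]
    exact one_mem _
  · have h1 := mem_cj.1 (e.o2_le_cj hc (e.E_le hv hvD hvT ha.2))
    rw [hL]
    have e1 : a * (c * v * c⁻¹) * a⁻¹ * (c * v * c⁻¹)⁻¹ =
      c * (c⁻¹ * a * c * v * (c⁻¹ * a * c)⁻¹ * v⁻¹) * c⁻¹ := by group
    rw [e1, inL_conj hvT hc]
    exact ⟨_, h1, rfl⟩

theorem a7 [Finite G] {L : Subgroup G} (hL : ∀ d, d ∈ L ↔ InL (S ⊓ centralizer (D : Set G)) v d)
    (hv : v ∈ V) (hvD : v ∉ D) (hvT : ∀ t ∈ S ⊓ centralizer (D : Set G), t * v * t⁻¹ * v⁻¹ ∈ D) :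
    (e.NL v L (e.E v)).relIndex (cl V (centralizer (D : Set G))) ≤
      (Wv D v ⊔ (cl V (centralizer (D : Set G)) ⊓ centralizer (B : Set G))).relIndex
        (cl V (centralizer (D : Set G))) := by
  refine rel_left (sup_le (e.Wv_le_NL hL hv hvD hvT) ?_) _
  rintro x ⟨hx, hxB⟩
  refine ⟨hx, fun a ha => ?_⟩
  have h2 := mem_centralizer_iff.1 hxB a (e.E_le_B ha.2)
  have e1 : a * x * a⁻¹ * x⁻¹ = 1 := by rw [h2]; group
  rw [e1]
  exact one_mem _

section good

theorem E_sq : ∀ a ∈ e.E v, a * a = 1 := fun a ha => e.Bsq a ha.1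

omit e in
/-- the greedy count with `{w ∈ W_D : [E, w] ⊆ L(v)}` -/
theorem a6 [Finite G] (e : End S Z V D B) (g : GoodAt (S ⊓ centralizer (D : Set G)) V D lam T₀)
    (hvl : v ∈ lam) (hvD : v ∉ D) {L : Subgroup G}
    (hL : ∀ d, d ∈ L ↔ InL (S ⊓ centralizer (D : Set G)) v d) :
    (centralizer (cl V (centralizer (D : Set G)) : Set G)).relIndex (e.E v) ≤
        (e.NL v L (e.E v)).relIndex (cl V (centralizer (D : Set G))) ∧
      ((centralizer (cl V (centralizer (D : Set G)) : Set G)).relIndex (e.E v) =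
        (e.NL v L (e.E v)).relIndex (cl V (centralizer (D : Set G))) →
        ∀ a ∈ e.E v, ∀ x ∈ cl V (centralizer (D : Set G)), a * x * a⁻¹ * x⁻¹ ∈ D) := by
  have hv := g.leV hvl
  have hvT := g.comm v hvl
  set W := cl V (centralizer (D : Set G)) with hW
  let ι := centralizer (D : Set G)
  let Vi : ι → Subgroup G := fun c => cj (c : G) V
  have hV : ∀ i, Vi i ≤ W := fun i => cj_le_cl i.2
  have hWi : W ≤ ⨆ i, Vi i := le_rfl
  have anti : ∀ F ≤ e.E v, ∀ F' ≤ F, e.NL v L F ≤ e.NL v L F' := fun F _ F' hF' x hx =>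
    ⟨hx.1, fun a ha => hx.2 a ⟨hF' ha.1, ha.2⟩⟩
  have NW : ∀ F ≤ e.E v, e.NL v L F ≤ W := fun F _ x hx => hx.1
  have cen : ∀ F ≤ e.E v, ∀ i, Vi i ≤ e.NL v L (F ⊓ centralizer (Vi i : Set G)) := by
    intro F _ i x hx
    refine ⟨hV i hx, fun a ha => ?_⟩
    have h1 := mem_centralizer_iff.1 ha.1.2 x hx
    have e1 : a * x * a⁻¹ * x⁻¹ = 1 := by rw [← h1]; group
    rw [e1]
    exact one_mem _
  have hNF : ∀ F ≤ e.E v, ∀ x, x ∈ e.NL v L F ↔
      x ∈ W ∧ ∀ a ∈ F, InL (S ⊓ centralizer (D : Set G)) v (a * x * a⁻¹ * x⁻¹) := by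
    intro F hF x
    rw [e.mem_NL, inf_eq_left.2 hF]
    simp only [hL, hW]
  have hFT : ∀ F ≤ e.E v, ∀ i : ι, F ≤ cj (i : G) (S ⊓ centralizer (D : Set G)) := fun F hF i =>
    hF.trans ((e.E_le hv hvD hvT).trans (e.o2_le_cj i.2))
  have loc : ∀ F ≤ e.E v, ∀ i, (centralizer (Vi i : Set G)).relIndex F ≤ (e.NL v L F).relIndex (Vi i) :=
    fun F hF i => loc_off g hvl hvD i.2 (hFT F hF i) (fun a ha => e.E_sq a (hF ha)) (hV i) (hNF F hF)
  constructor
  · have h1 := greedy (m := 1) hV hWi anti NW cen (fun F hF i => by rw [pow_one]; exact loc F hF i) (e.E v) le_rfl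
    rwa [pow_one] at h1
  · intro he a ha
    have h1 := greedy_eq hV hWi anti NW cen loc he
    have h2 : W ≤ cw W (e.E v) D e.WD_comm (e.E_le_B.trans e.B_norm) := by
      refine cl_le fun c hc x hx => ⟨hV ⟨c, hc⟩ hx, fun a ha => ?_⟩
      exact loc_eq g hvl hvD hc (hFT _ le_rfl ⟨c, hc⟩) (fun a ha => e.E_sq a ha) (hV ⟨c, hc⟩) (hNF _ le_rfl)
        (h1 ⟨c, hc⟩) a ha x hx
    intro x hx
    exact (h2 hx).2 a ha

omit e in
/-- the greedy count with `C_{W_D}(E)` -/
theorem a8 [Finite G] (e : End S Z V D B) (g : GoodAt (S ⊓ centralizer (D : Set G)) V D lam T₀)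
    (hvl : v ∈ lam) (hvD : v ∉ D) :
    (centralizer (cl V (centralizer (D : Set G)) : Set G)).relIndex (e.E v) ^ 2 ≤
      (centralizer (e.E v : Set G)).relIndex (cl V (centralizer (D : Set G))) := by
  have hv := g.leV hvl
  have hvT := g.comm v hvl
  set W := cl V (centralizer (D : Set G)) with hW
  let ι := centralizer (D : Set G)
  let Vi : ι → Subgroup G := fun c => cj (c : G) V
  have hV : ∀ i, Vi i ≤ W := fun i => cj_le_cl i.2
  have hFT : ∀ F ≤ e.E v, ∀ i : ι, F ≤ cj (i : G) (S ⊓ centralizer (D : Set G)) := fun F hF i =>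
    hF.trans ((e.E_le hv hvD hvT).trans (e.o2_le_cj i.2))
  have h1 := greedy (E := e.E v) (W := W) (N := fun F => W ⊓ centralizer (F : Set G)) (m := 2) hV le_rfl
    (fun F _ F' hF' => inf_le_inf_left _ (cent_mono hF')) (fun F _ => inf_le_left)
    (fun F _ i => le_inf (hV i) (cent_symm inf_le_right)) (fun F hF i => by
      have h2 := loc_sq (c := (i : G)) g (hFT F hF i) (fun a ha => e.E_sq a (hF ha))
      refine h2.trans (le_of_eq (rel_congr ?_))
      rw [inf_comm W (centralizer _), inf_assoc, inf_eq_right.2 (hV i)]) (e.E v) le_rfl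
  rwa [inf_relIndex_left] at h1

omit e in
/-- **the count at one end** -/
theorem chain [Finite G] (e : End S Z V D B) (ml : MLK.{u, u}) (hK : IsKGroup (centralizer (D : Set G)))
    (g : GoodAt (S ⊓ centralizer (D : Set G)) V D lam T₀) (hvl : v ∈ lam) (hvD : v ∉ D) :
    (centralizer (cl V (centralizer (D : Set G)) : Set G)).relIndex B ≤
        (centralizer (B : Set G)).relIndex (cl V (centralizer (D : Set G))) ∧
      ((centralizer (cl V (centralizer (D : Set G)) : Set G)).relIndex B =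
        (centralizer (B : Set G)).relIndex (cl V (centralizer (D : Set G))) →
        (e.E v).relIndex B = (e.CW v (g.leV hvl)).relIndex (Wv D v) ∧
        (e.E v).relIndex B = (centralizer (B : Set G)).relIndex (Wv D v) ∧
        ∀ a ∈ e.E v, ∀ x ∈ cl V (centralizer (D : Set G)), a * x * a⁻¹ * x⁻¹ ∈ D) := by
  have hv := g.leV hvl
  have hvT := g.comm v hvl
  obtain ⟨L, -, hL⟩ := exists_L (inf_le_right : S ⊓ centralizer (D : Set G) ≤ _) hvT
  have b1 := e.a1 hv
  have b2 := e.a2 hv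
  have b3 := e.a3 hv
  have b4 := e.a4 hv
  have b5 := e.a5 ml hK hv hvD hvT
  obtain ⟨b6, b6'⟩ := e.a6 g hvl hvD hL
  have b7 := e.a7 hL hv hvD hvT
  set W := cl V (centralizer (D : Set G)) with hW
  set x := (e.E v).relIndex B with hx
  set x1 := (e.CW v hv).relIndex (Wv D v) with hx1
  set x2 := (centralizer (B : Set G)).relIndex (Wv D v) with hx2
  set y := (centralizer (W : Set G)).relIndex (e.E v) with hy
  set y1 := (e.NL v L (e.E v)).relIndex W with hy1
  set p := (W ⊓ centralizer (B : Set G)).relIndex (Wv D v ⊔ (W ⊓ centralizer (B : Set G))) with hp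
  set q := (Wv D v ⊔ (W ⊓ centralizer (B : Set G))).relIndex W with hq
  have h1 : y ≤ q := b6.trans b7
  have h2 : x ≤ p := b5.trans (b4.trans b3)
  have hx0 : 0 < x := rel_pos _ _
  have hy0 : 0 < y := rel_pos _ _
  refine ⟨?_, fun he => ?_⟩
  · rw [b1, b2, mul_comm p q]
    exact Nat.mul_le_mul h1 h2
  · rw [b1, b2, mul_comm p q] at he
    have h3 : q = y := by
      refine le_antisymm ?_ h1
      have h4 : q * x ≤ y * x := by
        calc q * x ≤ q * p := Nat.mul_le_mul_left _ h2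
          _ = y * x := he.symm
      exact Nat.le_of_mul_le_mul_right h4 hx0
    have h4 : p = x := by
      refine le_antisymm ?_ h2
      have h5 : y * p ≤ y * x := by
        calc y * p ≤ q * p := Nat.mul_le_mul_right _ h1
          _ = y * x := he.symm
      exact Nat.le_of_mul_le_mul_left h5 hy0
    refine ⟨?_, ?_, ?_⟩
    · exact le_antisymm b5 ((b4.trans b3).trans h4.le)
    · exact le_antisymm (b5.trans b4) (b3.trans h4.le)
    · exact b6' (le_antisymm b6 (b7.trans h3.le))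

/-- `{w ∈ W_D : [w, B] ≤ D}` -/
def CD (e : End S Z V D B) : Subgroup G :=
  cw (cl V (centralizer (D : Set G))) B D e.WD_comm e.B_norm

theorem mem_CD {x : G} : x ∈ e.CD ↔ x ∈ cl V (centralizer (D : Set G)) ∧ ∀ a ∈ B, a * x * a⁻¹ * x⁻¹ ∈ D :=
  Iff.rfl

theorem cent_le_CD : cl V (centralizer (D : Set G)) ⊓ centralizer (B : Set G) ≤ e.CD := by
  rintro x ⟨hx, hxB⟩
  refine ⟨hx, fun a ha => ?_⟩
  have h2 := mem_centralizer_iff.1 hxB a ha
  have e1 : a * x * a⁻¹ * x⁻¹ = 1 := by rw [h2]; group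
  rw [e1]
  exact one_mem _

/-- the data of an exact end -/
structure Exact (e : End S Z V D B) (v : G) : Prop where
  card : (centralizer (cl V (centralizer (D : Set G)) : Set G)).relIndex B =
    (centralizer (B : Set G)).relIndex (cl V (centralizer (D : Set G)))
  exact : (e.E v).relIndex B = (centralizer (B : Set G)).relIndex (Wv D v)
  full : ∀ x ∈ Wv D v, (∀ b ∈ B, b * x * b⁻¹ * x⁻¹ ∈ D) → x ∈ centralizer (B : Set G)
  ED : ∀ a ∈ e.E v, ∀ x ∈ cl V (centralizer (D : Set G)), a * x * a⁻¹ * x⁻¹ ∈ D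
  one_lt : 1 < (e.E v).relIndex B
  yx : (centralizer (cl V (centralizer (D : Set G)) : Set G)).relIndex (e.E v) ≤ (e.E v).relIndex B
  five : e.CD.relIndex (cl V (centralizer (D : Set G))) < (e.E v).relIndex B ^ 2 ∨
    (1 < (centralizer (cl V (centralizer (D : Set G)) : Set G)).relIndex (e.E v) ∧
      cl V (centralizer (D : Set G)) ⊓ centralizer (e.E v : Set G) ≤ centralizer (B : Set G))

omit e in
theorem exact_of [Finite G] (e : End S Z V D B) (ml : MLK.{u, u}) (hK : IsKGroup (centralizer (D : Set G)))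
    (g : GoodAt (S ⊓ centralizer (D : Set G)) V D lam T₀) (hvl : v ∈ lam) (hvD : v ∉ D)
    (he : (centralizer (B : Set G)).relIndex (cl V (centralizer (D : Set G))) ≤
      (centralizer (cl V (centralizer (D : Set G)) : Set G)).relIndex B) : Exact e v := by
  obtain ⟨h1, h2⟩ := e.chain ml hK g hvl hvD
  have he' := le_antisymm h1 he
  obtain ⟨h3, h4, h5⟩ := h2 he'
  have hv := g.leV hvl
  have b1 := e.a1 hv
  have b8 := e.a8 g hvl hvD
  have h6 : (centralizer (e.E v : Set G)).relIndex (cl V (centralizer (D : Set G))) ≤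
      (centralizer (B : Set G)).relIndex (cl V (centralizer (D : Set G))) :=
    rel_left (cent_mono e.E_le_B) _
  set W := cl V (centralizer (D : Set G)) with hW
  set x := (e.E v).relIndex B with hx
  set y := (centralizer (W : Set G)).relIndex (e.E v) with hy
  have hx0 : 0 < x := rel_pos _ _
  have hy0 : 0 < y := rel_pos _ _
  have hCB : (centralizer (B : Set G)).relIndex W = y * x := by rw [← he', b1]
  have hyx : y ≤ x := by
    have h7 : y * y ≤ y * x := by
      calc y * y = y ^ 2 := by ring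
        _ ≤ _ := b8
        _ ≤ _ := h6
        _ = y * x := hCB
    exact Nat.le_of_mul_le_mul_left h7 hy0
  have hx1 : 1 < x := by
    by_contra hc
    have h7 : x = 1 := by omega
    have h8 : y = 1 := by omega
    apply e.ne
    rw [← relIndex_eq_one, b1, h7, h8]
  refine ⟨he', h4, ?_, h5, hx1, hyx, ?_⟩
  · -- full preimage
    have h7 : centralizer (B : Set G) ⊓ Wv D v ≤ e.CW v hv := by
      rintro y ⟨hy, hyW⟩
      refine ⟨hyW, fun a ha => ?_⟩
      have h2 := mem_centralizer_iff.1 hy a ha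
      have e1 : a * y * a⁻¹ * y⁻¹ = 1 := by rw [h2]; group
      rw [e1]
      exact one_mem _
    have h8 : (centralizer (B : Set G) ⊓ Wv D v).relIndex (Wv D v) = (e.CW v hv).relIndex (Wv D v) := by
      rw [inf_relIndex_right, ← h4, h3]
    have h9 : e.CW v hv ≤ Wv D v := fun y hy => hy.1
    have h10 : centralizer (B : Set G) ⊓ Wv D v = e.CW v hv := by
      refine Subgroup.eq_of_le_of_card_ge h7 ?_
      have c1 := card_mul_relIndex (inf_le_right : centralizer (B : Set G) ⊓ Wv D v ≤ Wv D v)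
      have c2 := card_mul_relIndex h9
      rw [h8] at c1
      exact (Nat.eq_of_mul_eq_mul_right (rel_pos _ _) (c2.trans c1.symm)).le
    intro y hy hyB
    have h11 : y ∈ e.CW v hv := ⟨hy, hyB⟩
    rw [← h10] at h11
    exact h11.1
  · by_cases hr : e.CD.relIndex W < x ^ 2
    · exact Or.inl hr
    right
    push Not at hr
    have h7 : e.CD.relIndex W ≤ y * x := by
      rw [← hCB, ← inf_relIndex_left W (centralizer (B : Set G))]
      exact rel_left e.cent_le_CD _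
    have h8 : x ≤ y := by
      have h9 : x * x ≤ y * x := by
        calc x * x = x ^ 2 := by ring
          _ ≤ _ := hr
          _ ≤ _ := h7
      exact Nat.le_of_mul_le_mul_right h9 hx0
    have h9 : y = x := le_antisymm hyx h8
    have h12 : 1 < y := by omega
    refine ⟨h12, ?_⟩
    have h10 : (centralizer (e.E v : Set G)).relIndex W = (centralizer (B : Set G)).relIndex W := by
      refine le_antisymm h6 ?_
      rw [hCB]
      calc y * x = y ^ 2 := by rw [← h9]; ring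
        _ ≤ _ := b8
    have h11 : W ⊓ centralizer (B : Set G) = W ⊓ centralizer (e.E v : Set G) := by
      refine Subgroup.eq_of_le_of_card_ge (inf_le_inf_left _ (cent_mono e.E_le_B)) ?_
      have c1 := card_mul_relIndex (inf_le_left : W ⊓ centralizer (B : Set G) ≤ W)
      have c2 := card_mul_relIndex (inf_le_left : W ⊓ centralizer (e.E v : Set G) ≤ W)
      rw [inf_relIndex_left] at c1 c2
      rw [h10] at c2
      exact (Nat.eq_of_mul_eq_mul_right (rel_pos _ _) (c2.trans c1.symm)).le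
    rw [← h11]
    exact inf_le_right

end good

end End

end Cfsg.Agent.Omega.NO3b.ClosedPt
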