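import Cfsg.Agent.Omega.NO3b.Closed.Pair
import Cfsg.Agent.Omega.NO3b.Closed.InstPar

/-!
# The pair `(Λ, V)` over a point `Z ≤ Ω₁(Z(S))` (#19499, #21097)

* `W_comm_of`, `W_sq_of`, `W_le_of` : `W = ⟨V^{C_G(Z)}⟩` is elementary abelian and in `O₂(C_G(Z))`;
* `flag_of`, `geo_of` : `ClosedPt.Flag S Z V`, `ClosedPt.Geo S Z V Λ` from `Z ≤ V ≤ O₂(C_G(Z))`, (HZ) and
  `C_Z(C_G(V)) = Z` (`fixY`).
-/

set_option autoImplicit false

namespace Cfsg.Agent.Omega.NO3b.GeoOf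

open Subgroup Cfsg
open Cfsg.Agent.ZN (o2 zc zl)
open Cfsg.Agent.ZN.ChoiceBase hiding mem_zc
open Cfsg.Agent.ZN.ChoiceSit (Syl o2_le_syl)
open Cfsg.Agent.MinSimple.EmptyTI (syl_of_le)
open Cfsg.Agent.Omega.NO3b.EZero (cl cl_le le_cl cj_le_cl cent_symm)
open Cfsg.Agent.Omega.NO3b.ClosedPt (Flag Geo)
open Cfsg.Agent.MinSimple.VModule (le_normalizer_o2 mem_zc)

universe u

variable {G : Type u} [Group G]

/-- (HZ): conjugates of `V` which meet commute -/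
def HZ (V : Subgroup G) : Prop :=
  ∀ a b : G, cj a V ⊓ cj b V ≠ ⊥ → cj a V ≤ centralizer ((cj b V : Subgroup G) : Set G)

variable {Z V : Subgroup G}

theorem le_cj_of {c : G} (hc : c ∈ centralizer (Z : Set G)) (hZ : Z ≤ V) : Z ≤ cj c V := by
  intro z hz
  rw [mem_cj]
  have h1 := mem_centralizer_iff.1 hc z hz
  have e : c⁻¹ * z * c = z := by rw [mul_assoc, h1]; group
  rw [e]
  exact hZ hz

/-- `⟨V^{C_G(Z)}⟩` is abelian -/
theorem W_comm_of (Zne : Z ≠ ⊥) (ZV : Z ≤ V) (hz : HZ V) :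
    cl V (centralizer (Z : Set G)) ≤ centralizer (cl V (centralizer (Z : Set G)) : Set G) := by
  refine cl_le fun a ha => cent_symm (cl_le fun b hb => ?_)
  refine hz b a fun h0 => Zne ?_
  rw [eq_bot_iff, ← h0]
  exact le_inf (le_cj_of hb ZV) (le_cj_of ha ZV)

theorem W_sq_of (Zne : Z ≠ ⊥) (ZV : Z ≤ V) (hz : HZ V) (sq : ∀ v ∈ V, v ^ 2 = 1) :
    ∀ a ∈ cl V (centralizer (Z : Set G)), a ^ 2 = 1 := by
  have hcomm : ∀ a ∈ cl V (centralizer (Z : Set G)), ∀ b ∈ cl V (centralizer (Z : Set G)), a * b = b * a :=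
    fun a ha b hb => mem_centralizer_iff.1 (W_comm_of Zne ZV hz hb) a ha
  let K : Subgroup G :=
    { carrier := {a | a ∈ cl V (centralizer (Z : Set G)) ∧ a ^ 2 = 1}
      one_mem' := ⟨one_mem _, one_pow _⟩
      mul_mem' := fun {a b} ha hb => ⟨mul_mem ha.1 hb.1, by
        rw [(show Commute a b from hcomm a ha.1 b hb.1).mul_pow, ha.2, hb.2, one_mul]⟩
      inv_mem' := fun {a} ha => ⟨inv_mem ha.1, by rw [inv_pow, ha.2, inv_one]⟩ }
  have h1 : cl V (centralizer (Z : Set G)) ≤ K := cl_le fun x hx y hy =>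
    ⟨cj_le_cl hx hy, by
      have h2 := sq _ (mem_cj.1 hy)
      have e : y = x * (x⁻¹ * y * x) * x⁻¹ := by group
      rw [e, conj_pow, h2, mul_one, mul_inv_cancel]⟩
  exact fun a ha => (h1 ha).2

/-- `⟨V^{C_G(Z)}⟩ ≤ O₂(C_G(Z))` -/
theorem W_le_of (low : V ≤ o2 (centralizer (Z : Set G))) :
    cl V (centralizer (Z : Set G)) ≤ o2 (centralizer (Z : Set G)) := cl_le fun x hx => by
  have h1 := cj_mono x low
  rwa [cj_eq_of_mem_normalizer (le_normalizer_o2 _ hx)] at h1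

variable [Finite G] {S : Sylow 2 G} {L : Subgroup G}

omit [Finite G] in
theorem S_le_cent (Zc : Z ≤ zc (S : Subgroup G)) : (S : Subgroup G) ≤ centralizer (Z : Set G) := by
  intro s hs
  rw [mem_centralizer_iff]
  exact fun z hz => ((ZN.ChoiceBase.mem_zc.1 (Zc hz)).2.2 s hs).symm

/-- **The flag.** -/
theorem flag_of (Zc : Z ≤ zc (S : Subgroup G)) (Zne : Z ≠ ⊥) (ZV : Z ≤ V)
    (SV : (S : Subgroup G) ≤ normalizer (V : Set G)) (sq : ∀ v ∈ V, v ^ 2 = 1)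
    (low : V ≤ o2 (centralizer (Z : Set G))) (hz : HZ V)
    (fixY : ∀ w ∈ zc (S : Subgroup G), w ∈ cl V (centralizer (Z : Set G)) →
      (∀ y ∈ centralizer (V : Set G), y * w = w * y) → w ∈ Z) :
    Flag (S : Subgroup G) Z V :=
  Flag.of_fix (syl_of_le (S_le_cent Zc)) ZV SV low (W_comm_of Zne ZV hz)
    (fun v hv => by rw [← pow_two]; exact sq v hv) (by
    intro w hw hS hY
    refine fixY w (mem_zc.2 ⟨?_, fun s hs => hS s hs, W_sq_of Zne ZV hz sq w hw⟩) hw hY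
    exact ((W_le_of low).trans (o2_le_syl (syl_of_le (S_le_cent Zc)))) hw)

/-- **The pair `(Λ, V)`.** -/
theorem geo_of (Zc : Z ≤ zc (S : Subgroup G)) (Zne : Z ≠ ⊥) (ZV : Z ≤ V)
    (SL : (S : Subgroup G) ≤ L) (LV : L ≤ normalizer (V : Set G)) (sq : ∀ v ∈ V, v ^ 2 = 1)
    (low : V ≤ o2 (centralizer (Z : Set G))) (hz : HZ V)
    (fixY : ∀ w ∈ zc (S : Subgroup G), w ∈ cl V (centralizer (Z : Set G)) →
      (∀ y ∈ centralizer (V : Set G), y * w = w * y) → w ∈ Z)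
    (nonloc : ∀ R : Subgroup G, IsPGroup 2 R → L ≤ normalizer (R : Set G) →
      centralizer (Z : Set G) ≤ normalizer (R : Set G) → R = ⊥) :
    Geo (S : Subgroup G) Z V L where
  flag := flag_of Zc Zne ZV (SL.trans LV) sq low hz fixY
  ne := Zne
  norm := LV
  hz := hz
  nonloc := nonloc

end Cfsg.Agent.Omega.NO3b.GeoOf
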