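import Cfsg.Agent.Omega.NO3b.Closed.Point

/-!
# #20630 (helper593, referee #21179): LEMMA 2L (two labels)

`S` a 2-group, `W` elementary abelian, `C_W(S) ≤ Z`, `S ≤ C ≤ N(W)`.

* `Lab C Z w L` : `w` is a *label vector* with label line `L`: `[g, w] ∈ Z` ⟹ `[g, w] ∈ L` (`g ∈ C`);
* `Flag.star` (*) : `v ∈ V`, `{c ∈ C : [c, v] ∈ Z} ≤ C_G(V) S` and `[s, v] ∈ L` for `s ∈ S` ⟹ all `v^h` (`h ∈ C`) are
  label vectors with label line `L` (`L ≤ Z`);
* `two_labels` : `B ≤ W` `S`-invariant, `[a, S] ≤ B`, the coset `aB` contains two label vectors with label lines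
  meeting in `1`: `C_S(B)` centralises `a`;
* `twoL` (LEMMA 2L) : `X ≤ C`, `X^S = X`, `[a, S] ≤ C_W(X)`, `a C_W(X)` contains label vectors with label lines meeting
  in `1`: `X` centralises `a`;
* `trans_fix` : the common form of (TR) and 2L;
* `Flag.cor_one` (COR 1), `Flag.cor_two` (COR 2), `Flag.full` ((W), label-fullness).
-/

set_option autoImplicit false

namespace Cfsg.Agent.Omega.NO3b.ClosedPt

open Subgroup Cfsg Cfsg.Agent.ZN Cfsg.Agent.ZN.ChoiceBase Cfsg.Agent.ZN.ChoiceSit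
open Cfsg.Agent.Omega.NO3b.EZero

universe u

variable {G : Type u} [Group G]

/-- `w` is a label vector with label line `L` -/
def Lab (C Z : Subgroup G) (w : G) (L : Subgroup G) : Prop :=
  ∀ g ∈ C, g * w * g⁻¹ * w⁻¹ ∈ Z → g * w * g⁻¹ * w⁻¹ ∈ L

/-- conjugates of label vectors under `C ≤ C_G(Z)`, `L ≤ Z` -/
theorem Lab.conj {C Z L : Subgroup G} {w : G} (h : Lab C Z w L) (hC : C ≤ centralizer (Z : Set G))
    {c : G} (hc : c ∈ C) : Lab C Z (c * w * c⁻¹) L := by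
  intro g hg hgw
  have h1 : (c⁻¹ * g * c) * w * (c⁻¹ * g * c)⁻¹ * w⁻¹ = c⁻¹ * (g * (c * w * c⁻¹) * g⁻¹ * (c * w * c⁻¹)⁻¹) * c := by
    group
  have h2 : ∀ z ∈ Z, c⁻¹ * z * c = z := by
    intro z hz
    have h3 := mem_centralizer_iff.1 (hC hc) z hz
    rw [mul_assoc, h3]
    group
  have h3 := h2 _ hgw
  have h4 := h (c⁻¹ * g * c) (mul_mem (mul_mem (inv_mem hc) hg) hc) (by rw [h1, h3]; exact hgw)
  rw [h1, h3] at h4
  exact h4

section Two

variable [Finite G] {S C Z W : Subgroup G}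

/-- **TWO LABELS** -/
theorem two_labels (hS : IsPGroup 2 S) (hSC : S ≤ C) (hcomm : ∀ a ∈ W, ∀ b ∈ W, a * b = b * a)
    (hfix : ∀ w ∈ W, (∀ s ∈ S, s * w = w * s) → w ∈ Z)
    {B : Subgroup G} (hBW : B ≤ W) (hSB : S ≤ normalizer (B : Set G)) (hsq : ∀ b ∈ B, b * b = 1)
    {a v v' : G} {L L' : Subgroup G} (ha : ∀ s ∈ S, s * a * s⁻¹ * a⁻¹ ∈ B)
    (hv : v * a⁻¹ ∈ B) (hv' : v' * a⁻¹ ∈ B) (hl : Lab C Z v L) (hl' : Lab C Z v' L') (hLL : L ⊓ L' = ⊥) :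
    ∀ t ∈ S, (∀ b ∈ B, t * b = b * t) → t * a = a * t := by
  classical
  -- the commutator map on `C_S(B)`
  have key : ∀ t ∈ S, (∀ b ∈ B, t * b = b * t) → ∀ w : G, w * a⁻¹ ∈ B →
      t * w * t⁻¹ * w⁻¹ = t * a * t⁻¹ * a⁻¹ := by
    intro t ht htB w hw
    have h1 := htB _ hw
    have e0 : w = (w * a⁻¹) * a := by group
    have h2 : (w * a⁻¹) * (t * a * t⁻¹ * a⁻¹) = (t * a * t⁻¹ * a⁻¹) * (w * a⁻¹) :=
      hcomm _ (hBW hw) _ (hBW (ha t ht))
    calc t * w * t⁻¹ * w⁻¹ = (t * (w * a⁻¹)) * (a * t⁻¹) * w⁻¹ := by group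
      _ = ((w * a⁻¹) * t) * (a * t⁻¹) * w⁻¹ := by rw [h1]
      _ = ((w * a⁻¹) * (t * a * t⁻¹ * a⁻¹)) * (a * w⁻¹) := by group
      _ = ((t * a * t⁻¹ * a⁻¹) * (w * a⁻¹)) * (a * w⁻¹) := by rw [h2]
      _ = t * a * t⁻¹ * a⁻¹ := by group
  have hmul : ∀ s ∈ S, (∀ b ∈ B, s * b = b * s) → ∀ t ∈ S, (∀ b ∈ B, t * b = b * t) →
      (s * t) * a * (s * t)⁻¹ * a⁻¹ = (s * a * s⁻¹ * a⁻¹) * (t * a * t⁻¹ * a⁻¹) := by
    intro s hs hsB t ht htB
    have h1 := hsB _ (ha t ht)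
    have h2 : (t * a * t⁻¹ * a⁻¹) * (s * a * s⁻¹ * a⁻¹) = (s * a * s⁻¹ * a⁻¹) * (t * a * t⁻¹ * a⁻¹) :=
      hcomm _ (hBW (ha t ht)) _ (hBW (ha s hs))
    calc (s * t) * a * (s * t)⁻¹ * a⁻¹ = (s * (t * a * t⁻¹ * a⁻¹)) * (a * s⁻¹ * a⁻¹) := by group
      _ = ((t * a * t⁻¹ * a⁻¹) * s) * (a * s⁻¹ * a⁻¹) := by rw [h1]
      _ = (t * a * t⁻¹ * a⁻¹) * (s * a * s⁻¹ * a⁻¹) := by group
      _ = _ := h2
  let I : Subgroup G :=
    { carrier := {x | ∃ t ∈ S, (∀ b ∈ B, t * b = b * t) ∧ t * a * t⁻¹ * a⁻¹ = x}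
      mul_mem' := by
        rintro x y ⟨s, hs, hsB, rfl⟩ ⟨t, ht, htB, rfl⟩
        refine ⟨s * t, mul_mem hs ht, fun b hb => ?_, hmul s hs hsB t ht htB⟩
        rw [mul_assoc, htB b hb, ← mul_assoc, hsB b hb, mul_assoc]
      one_mem' := ⟨1, one_mem _, fun b _ => by simp, by simp⟩
      inv_mem' := by
        rintro x ⟨s, hs, hsB, rfl⟩
        refine ⟨s, hs, hsB, ?_⟩
        exact (inv_eq_of_mul_eq_one_right (hsq _ (ha s hs))).symm }
  have hIB : I ≤ B := by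
    rintro x ⟨t, ht, -, rfl⟩
    exact ha t ht
  have hIn : S ≤ normalizer (I : Set G) := by
    refine norm_of fun s hs x hx => ?_
    obtain ⟨t, ht, htB, rfl⟩ := hx
    refine ⟨s * t * s⁻¹, mul_mem (mul_mem hs ht) (inv_mem hs), fun b hb => ?_, ?_⟩
    · have h1 := htB _ (cj_mem' hSB hs hb)
      calc s * t * s⁻¹ * b = s * (t * (s⁻¹ * b * s)) * s⁻¹ := by group
        _ = s * ((s⁻¹ * b * s) * t) * s⁻¹ := by rw [h1]
        _ = b * (s * t * s⁻¹) := by group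
    · -- `[s t s⁻¹, a] = [s t s⁻¹, s a s⁻¹] = s [t, a] s⁻¹`
      have hstB : ∀ b ∈ B, (s * t * s⁻¹) * b = b * (s * t * s⁻¹) := by
        intro b hb
        have h1 := htB _ (cj_mem' hSB hs hb)
        calc s * t * s⁻¹ * b = s * (t * (s⁻¹ * b * s)) * s⁻¹ := by group
          _ = s * ((s⁻¹ * b * s) * t) * s⁻¹ := by rw [h1]
          _ = b * (s * t * s⁻¹) := by group
      have h2 := key (s * t * s⁻¹) (mul_mem (mul_mem hs ht) (inv_mem hs)) hstB (s * a * s⁻¹) (ha s hs)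
      rw [← h2]
      group
  by_cases hI : I = ⊥
  · intro t ht htB
    have h1 : t * a * t⁻¹ * a⁻¹ ∈ I := ⟨t, ht, htB, rfl⟩
    rw [hI, mem_bot] at h1
    have h2 : t * a * t⁻¹ = a := mul_inv_eq_one.1 h1
    exact mul_inv_eq_iff_eq_mul.1 h2
  · exfalso
    have hI2 : IsPGroup 2 I := fun x => ⟨1, Subtype.ext (by
      rw [pow_one, pow_two]; exact hsq x (hIB x.2))⟩
    obtain ⟨c, hc, hc1, hcS⟩ := exists_fixed hI2 hI hS hIn
    have hcZ : c ∈ Z := hfix c (hBW (hIB hc)) fun s hs => mem_centralizer_iff.1 hcS s hs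
    obtain ⟨t, ht, htB, rfl⟩ := hc
    have h1 := key t ht htB v hv
    have h2 := key t ht htB v' hv'
    have h3 := hl t (hSC ht) (by rw [h1]; exact hcZ)
    have h4 := hl' t (hSC ht) (by rw [h2]; exact hcZ)
    rw [h1] at h3
    rw [h2] at h4
    have h5 := mem_inf.2 ⟨h3, h4⟩
    rw [hLL, mem_bot] at h5
    exact hc1 h5

/-- the common form of (TR) and LEMMA 2L: `C_W(S) ≤ C_W(X)` ⟹ `C_W(S ∩ X) = C_W(X)`. -/
theorem trans_fix (hS : IsPGroup 2 S) (hcomm : ∀ a ∈ W, ∀ b ∈ W, a * b = b * a)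
    (hsq : ∀ a ∈ W, a * a = 1) {X : Subgroup G} (hXW : X ≤ normalizer (W : Set G))
    (hSW : S ≤ normalizer (W : Set G)) (hSX : S ≤ normalizer (X : Set G))
    (hodd : ¬ 2 ∣ (S ⊓ X).relIndex X)
    (hfix : ∀ w ∈ W, (∀ s ∈ S, s * w = w * s) → ∀ x ∈ X, x * w = w * x) {a : G} (ha : a ∈ W)
    (haS : ∀ t ∈ S ⊓ X, t * a = a * t) : ∀ x ∈ X, x * a = a * x :=
  trace hcomm hsq hXW hS hSW hSX hodd hfix a ha haS

/-- **LEMMA 2L** -/
theorem twoL (hS : IsPGroup 2 S) (hSC : S ≤ C) (hcomm : ∀ a ∈ W, ∀ b ∈ W, a * b = b * a)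
    (hsq : ∀ a ∈ W, a * a = 1) (hCW : C ≤ normalizer (W : Set G)) (hCZ : C ≤ centralizer (Z : Set G))
    (hfix : ∀ w ∈ W, (∀ s ∈ S, s * w = w * s) → w ∈ Z)
    {X : Subgroup G} (hXC : X ≤ C) (hSX : S ≤ normalizer (X : Set G)) (hodd : ¬ 2 ∣ (S ⊓ X).relIndex X)
    {a v v' : G} {L L' : Subgroup G} (haW : a ∈ W)
    (ha : ∀ s ∈ S, ∀ x ∈ X, x * (s * a * s⁻¹ * a⁻¹) = (s * a * s⁻¹ * a⁻¹) * x)
    (hvW : v ∈ W) (hv : ∀ x ∈ X, x * (v * a⁻¹) = (v * a⁻¹) * x)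
    (hv'W : v' ∈ W) (hv' : ∀ x ∈ X, x * (v' * a⁻¹) = (v' * a⁻¹) * x)
    (hl : Lab C Z v L) (hl' : Lab C Z v' L') (hLL : L ⊓ L' = ⊥) :
    ∀ x ∈ X, x * a = a * x := by
  have hSW : S ≤ normalizer (W : Set G) := hSC.trans hCW
  set B := W ⊓ centralizer (X : Set G) with hB
  have hmem : ∀ {w : G}, w ∈ W → (∀ x ∈ X, x * w = w * x) → w ∈ B := fun hw hx =>
    ⟨hw, mem_centralizer_iff.2 hx⟩
  have hSB : S ≤ normalizer (B : Set G) := norm_inf hSW (norm_cent hSX)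
  refine trans_fix hS hcomm hsq (hXC.trans hCW) hSW hSX hodd ?_ haW ?_
  · intro w hw hws x hx
    exact (mem_centralizer_iff.1 (hCZ (hXC hx)) w (hfix w hw hws)).symm
  · intro t ht
    refine two_labels hS hSC hcomm hfix (B := B) inf_le_left hSB (fun b hb => hsq b hb.1)
      (fun s hs => hmem (mul_mem (cj_mem hSW hs haW) (inv_mem haW)) (ha s hs))
      (hmem (mul_mem hvW (inv_mem haW)) hv) (hmem (mul_mem hv'W (inv_mem haW)) hv') hl hl' hLL t ht.1 ?_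
    intro b hb
    exact mem_centralizer_iff.1 hb.2 t ht.2

end Two

/-! ### over the flag -/

namespace Flag

theorem normW (Z V : Subgroup G) : centralizer (Z : Set G) ≤ normalizer (cl V (centralizer (Z : Set G)) : Set G) :=
  le_normalizer_cl _ _

variable [Finite G] {S Z V : Subgroup G}

/-- **(\*)** : `v` with `{c ∈ C : [c, v] ∈ Z} ≤ C_G(V) S` and `[v, S] ≤ L`. -/
theorem star (h : Flag S Z V) {L : Subgroup G} {v : G} (hv : v ∈ V)
    (hc2 : sv Z v ≤ centralizer (V : Set G) ⊔ S) (hL : ∀ s ∈ S, s * v * s⁻¹ * v⁻¹ ∈ L)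
    {c : G} (hc : c ∈ centralizer (Z : Set G)) : Lab (centralizer (Z : Set G)) Z (c * v * c⁻¹) L := by
  refine Lab.conj (C := centralizer (Z : Set G)) (Z := Z) ?_ le_rfl hc
  intro g hg hgv
  have h1 : g ∈ S ⊔ centralizer (V : Set G) := by
    rw [sup_comm]
    exact hc2 ⟨hg, hgv⟩
  have hVn : S ≤ normalizer ((centralizer (V : Set G) : Subgroup G) : Set G) := norm_cent h.SV
  rw [← SetLike.mem_coe, coe_mul_of_left_le_normalizer_right _ _ hVn, Set.mem_mul] at h1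
  obtain ⟨s, hs, d, hd, rfl⟩ := h1
  have h2 := mem_centralizer_iff.1 hd v hv
  have e1 : s * d * v * (s * d)⁻¹ * v⁻¹ = s * (d * v) * d⁻¹ * s⁻¹ * v⁻¹ := by group
  rw [e1, ← h2]
  have e2 : s * (v * d) * d⁻¹ * s⁻¹ * v⁻¹ = s * v * s⁻¹ * v⁻¹ := by group
  rw [e2]
  exact hL s hs

/-- **LEMMA 2L over the flag** -/
theorem twoLab (h : Flag S Z V)
    (hfx : ∀ w ∈ cl V (centralizer (Z : Set G)), (∀ s ∈ S, s * w = w * s) → w ∈ Z) {X : Subgroup G} (hXC : X ≤ centralizer (Z : Set G))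
    (hSX : S ≤ normalizer (X : Set G))
    {a v v' : G} {L L' : Subgroup G} (haW : a ∈ cl V (centralizer (Z : Set G)))
    (ha : ∀ s ∈ S, ∀ x ∈ X, x * (s * a * s⁻¹ * a⁻¹) = (s * a * s⁻¹ * a⁻¹) * x)
    (hvW : v ∈ cl V (centralizer (Z : Set G))) (hv : ∀ x ∈ X, x * (v * a⁻¹) = (v * a⁻¹) * x)
    (hv'W : v' ∈ cl V (centralizer (Z : Set G))) (hv' : ∀ x ∈ X, x * (v' * a⁻¹) = (v' * a⁻¹) * x)
    (hl : Lab (centralizer (Z : Set G)) Z v L) (hl' : Lab (centralizer (Z : Set G)) Z v' L') (hLL : L ⊓ L' = ⊥) :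
    ∀ x ∈ X, x * a = a * x :=
  twoL h.two h.SC h.Wcomm h.Wsq (normW Z V) le_rfl hfx hXC hSX
    (odd_inf hSX h.SC hXC (syl_not_dvd h.syl)) haW ha hvW hv hv'W hv' hl hl' hLL

/-- **(TR) over the flag** : `X ≤ C`, `X^S = X`, `S ∩ X` centralises `a ∈ W` : `X` centralises `a`. -/
theorem tr (h : Flag S Z V)
    (hfx : ∀ w ∈ cl V (centralizer (Z : Set G)), (∀ s ∈ S, s * w = w * s) → w ∈ Z) {X : Subgroup G} (hXC : X ≤ centralizer (Z : Set G)) (hSX : S ≤ normalizer (X : Set G))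
    {a : G} (haW : a ∈ cl V (centralizer (Z : Set G))) (ha : ∀ t ∈ S ⊓ X, t * a = a * t) :
    ∀ x ∈ X, x * a = a * x :=
  trans_fix h.two h.Wcomm h.Wsq (hXC.trans (normW Z V)) (h.SC.trans (normW Z V)) hSX
    (odd_inf hSX h.SC hXC (syl_not_dvd h.syl))
    (fun w hw hs _ hx => (mem_centralizer_iff.1 (hXC hx) w (hfx w hw hs)).symm) haW ha

/-- **COR 1** : `[V, S] ≤ Z`, `v, v'` with label lines meeting in `1`, `v^c ∈ v' C_W(X)` for some `c ∈ C`:
`X` centralises `v'`. -/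
theorem cor_one (h : Flag S Z V)
    (hfx : ∀ w ∈ cl V (centralizer (Z : Set G)), (∀ s ∈ S, s * w = w * s) → w ∈ Z) {X : Subgroup G} (hXC : X ≤ centralizer (Z : Set G))
    (hSX : S ≤ normalizer (X : Set G)) (hSVZ : ∀ s ∈ S, ∀ v ∈ V, s * v * s⁻¹ * v⁻¹ ∈ Z)
    {v v' c : G} (hv : v ∈ V) (hv' : v' ∈ V) {L L' : Subgroup G}
    (hl : Lab (centralizer (Z : Set G)) Z v L) (hl' : Lab (centralizer (Z : Set G)) Z v' L') (hLL : L ⊓ L' = ⊥)
    (hc : c ∈ centralizer (Z : Set G)) (hcv : ∀ x ∈ X, x * (c * v * c⁻¹ * v'⁻¹) = (c * v * c⁻¹ * v'⁻¹) * x) :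
    ∀ x ∈ X, x * v' = v' * x := by
  have hW : c * v * c⁻¹ ∈ cl V (centralizer (Z : Set G)) := cj_mem (normW Z V) hc (le_cl _ _ hv)
  refine h.twoLab hfx hXC hSX (le_cl _ _ hv') (fun s hs x hx => ?_) hW hcv (le_cl _ _ hv') (fun x _ => by simp)
    (hl.conj le_rfl hc) hl' hLL
  exact (mem_centralizer_iff.1 (hXC hx) _ (hSVZ s hs v' hv')).symm

/-- **COR 2** : `U ≤ W` `S`-invariant, `X ≤ C` `S`-invariant, `B = C_U(X) < U`, `Θ ≤ C` normalises `U` and is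
transitive on the nontrivial cosets of `B`; `w, w' ∈ U ∖ B` label vectors with label lines meeting in `1`:
contradiction. -/
theorem cor_two (h : Flag S Z V)
    (hfx : ∀ w ∈ cl V (centralizer (Z : Set G)), (∀ s ∈ S, s * w = w * s) → w ∈ Z) {X U Θ : Subgroup G} (hXC : X ≤ centralizer (Z : Set G))
    (hSX : S ≤ normalizer (X : Set G)) (hUW : U ≤ cl V (centralizer (Z : Set G))) (hSU : S ≤ normalizer (U : Set G))
    (hΘC : Θ ≤ centralizer (Z : Set G)) (hΘU : Θ ≤ normalizer (U : Set G))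
    (htr : ∀ u ∈ U, ¬ (∀ x ∈ X, x * u = u * x) → ∀ u' ∈ U, ¬ (∀ x ∈ X, x * u' = u' * x) →
      ∃ c ∈ Θ, ∀ x ∈ X, x * (c * u * c⁻¹ * u'⁻¹) = (c * u * c⁻¹ * u'⁻¹) * x)
    {w w' : G} (hw : w ∈ U) (hwX : ¬ (∀ x ∈ X, x * w = w * x)) (hw' : w' ∈ U)
    (hw'X : ¬ (∀ x ∈ X, x * w' = w' * x)) {L L' : Subgroup G}
    (hl : Lab (centralizer (Z : Set G)) Z w L) (hl' : Lab (centralizer (Z : Set G)) Z w' L')
    (hLL : L ⊓ L' = ⊥) : False := by
  classical
  have hf : Fact (Nat.Prime 2) := ⟨Nat.prime_two⟩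
  set B := U ⊓ centralizer (X : Set G) with hB
  have hSB : S ≤ normalizer (B : Set G) := norm_inf hSU (norm_cent hSX)
  have hmB : ∀ u ∈ U, (u ∈ B ↔ ∀ x ∈ X, x * u = u * x) := fun u hu =>
    ⟨fun h1 => mem_centralizer_iff.1 h1.2, fun h1 => ⟨hu, mem_centralizer_iff.2 h1⟩⟩
  -- an `S`-fixed coset
  obtain ⟨a, haU, haB, haS⟩ : ∃ a ∈ U, a ∉ B ∧ ∀ s ∈ S, s * a * s⁻¹ * a⁻¹ ∈ B := by
    have hBn : (B.subgroupOf U).Normal := by
      refine ⟨fun b hb u => ?_⟩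
      have h1 : (u : G) * b * (u : G)⁻¹ = b := by
        rw [h.Wcomm u (hUW u.2) b (hUW b.2)]
        group
      change (u : G) * b * (u : G)⁻¹ ∈ B
      rw [h1]
      exact hb
    let act : MulAction S (U ⧸ B.subgroupOf U) :=
      { smul := fun s => Quotient.map (fun u : U => (⟨s * u * (s : G)⁻¹, cj_mem hSU s.2 u.2⟩ : U)) (by
          intro u u' huu
          have h0 : (u : G)⁻¹ * u' ∈ B := by have h1 := QuotientGroup.leftRel_apply.1 huu; exact h1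
          refine QuotientGroup.leftRel_apply.2 ?_
          change ((s : G) * u * (s : G)⁻¹)⁻¹ * ((s : G) * u' * (s : G)⁻¹) ∈ B
          have e1 : ((s : G) * u * (s : G)⁻¹)⁻¹ * ((s : G) * u' * (s : G)⁻¹) = s * ((u : G)⁻¹ * u') * (s : G)⁻¹ := by
            group
          rw [e1]
          exact cj_mem hSB s.2 h0)
        one_smul := by
          intro x
          induction x using QuotientGroup.induction_on with
          | H a =>
            refine congrArg (QuotientGroup.mk (s := B.subgroupOf U)) (Subtype.ext ?_)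
            change (1 : G) * (a : G) * (1 : G)⁻¹ = a
            group
        mul_smul := by
          intro s t x
          induction x using QuotientGroup.induction_on with
          | H a =>
            refine congrArg (QuotientGroup.mk (s := B.subgroupOf U)) (Subtype.ext ?_)
            change ((s : G) * t) * (a : G) * ((s : G) * t)⁻¹ = s * (t * a * (t : G)⁻¹) * (s : G)⁻¹
            group }
    have hdvd : 2 ∣ Nat.card (U ⧸ B.subgroupOf U) := by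
      have hU2 : IsPGroup 2 (U ⧸ B.subgroupOf U) := by
        intro q
        obtain ⟨x, rfl⟩ := QuotientGroup.mk_surjective q
        refine ⟨1, ?_⟩
        rw [← QuotientGroup.mk_pow, QuotientGroup.eq_one_iff, mem_subgroupOf, pow_one, pow_two]
        have h1 : ((x * x : U) : G) = 1 := h.Wsq x (hUW x.2)
        rw [h1]
        exact one_mem _
      obtain ⟨n, hn⟩ := IsPGroup.iff_card.1 hU2
      rw [hn]
      rcases Nat.eq_zero_or_pos n with rfl | hn0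
      · exfalso
        rw [pow_zero] at hn
        have h1 := (Nat.card_eq_one_iff_unique.1 hn).1
        have h2 : (QuotientGroup.mk (⟨w, hw⟩ : U) : U ⧸ B.subgroupOf U) = 1 := Subsingleton.elim _ _
        rw [QuotientGroup.eq_one_iff, mem_subgroupOf] at h2
        exact hwX ((hmB w hw).1 h2)
      · exact dvd_pow_self 2 hn0.ne'
    have h1f : (1 : U ⧸ B.subgroupOf U) ∈ MulAction.fixedPoints S (U ⧸ B.subgroupOf U) := by
      intro s
      refine congrArg (QuotientGroup.mk (s := B.subgroupOf U)) (Subtype.ext ?_)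
      change (s : G) * 1 * (s : G)⁻¹ = 1
      group
    obtain ⟨b, hb, hne⟩ := h.two.exists_fixed_point_of_prime_dvd_card_of_fixed_point
      (U ⧸ B.subgroupOf U) hdvd h1f
    obtain ⟨a, rfl⟩ := QuotientGroup.mk_surjective b
    refine ⟨a, a.2, fun haB => hne ?_, fun s hs => ?_⟩
    · exact ((QuotientGroup.eq_one_iff a).2 (mem_subgroupOf.2 haB)).symm
    · have h2 := hb ⟨s, hs⟩
      have h3 := QuotientGroup.eq.1 h2.symm
      have h4 : (a : G)⁻¹ * (s * a * s⁻¹) ∈ B := h3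
      have h5 : s * a * s⁻¹ * (a : G)⁻¹ = (a : G)⁻¹ * (s * a * s⁻¹) :=
        h.Wcomm _ (hUW (cj_mem hSU hs a.2)) _ (hUW (inv_mem a.2))
      rw [h5]
      exact h4
  have haX : ¬ (∀ x ∈ X, x * a = a * x) := fun h1 => haB ((hmB a haU).2 h1)
  obtain ⟨c, hc, hcw⟩ := htr w hw hwX a haU haX
  obtain ⟨c', hc', hcw'⟩ := htr w' hw' hw'X a haU haX
  refine haX (h.twoLab hfx hXC hSX (hUW haU) (fun s hs x hx => mem_centralizer_iff.1 (haS s hs).2 x hx)
    (hUW (cj_mem hΘU hc hw)) hcw (hUW (cj_mem hΘU hc' hw')) hcw'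
    (hl.conj le_rfl (hΘC hc)) (hl'.conj le_rfl (hΘC hc')) hLL)

/-- **(f7)** : `|W : B| < |V : Z|` and (C1): `C_C(B) ≤ C(W)`. -/
theorem cent_le (hC1 : ∀ v ∈ V, v ∉ Z → ∀ c ∈ centralizer (Z : Set G), c * v = v * c →
      c ∈ centralizer (V : Set G)) {B : Subgroup G}
    (hidx : B.relIndex (cl V (centralizer (Z : Set G))) < Z.relIndex V) :
    centralizer (Z : Set G) ⊓ centralizer (B : Set G) ≤ centralizer (cl V (centralizer (Z : Set G)) : Set G) := by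
  intro x hx
  -- `V^c ∩ B ≰ Z` for all `c`
  have key : ∀ c ∈ centralizer (Z : Set G), ∃ v ∈ V, v ∉ Z ∧ c * v * c⁻¹ ∈ B := by
    intro c hc
    by_contra hno
    push Not at hno
    have h1 : (cj c⁻¹ B ⊓ V) ≤ Z := by
      intro v hv
      by_contra hvZ
      refine hno v hv.2 hvZ ?_
      have h2 := mem_cj.1 hv.1
      rwa [inv_inv] at h2
    have h2 : Z.relIndex V ≤ (cj c⁻¹ B).relIndex V := by
      rw [← inf_relIndex_right (cj c⁻¹ B) V]
      exact relIndex_le_of_le_left h1 (ne_of_gt (Nat.pos_of_ne_zero index_ne_zero_of_finite))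
    have h3 : (cj c⁻¹ B).relIndex V ≤ (cj c⁻¹ B).relIndex (cl V (centralizer (Z : Set G))) :=
      relIndex_le_of_le_right (le_cl _ _) (ne_of_gt (Nat.pos_of_ne_zero index_ne_zero_of_finite))
    have h4 : (cj c⁻¹ B).relIndex (cl V (centralizer (Z : Set G))) =
        B.relIndex (cl V (centralizer (Z : Set G))) := by
      have h5 : cj c⁻¹ (cl V (centralizer (Z : Set G))) = cl V (centralizer (Z : Set G)) :=
        cj_eq_of_mem_normalizer (normW Z V (inv_mem hc))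
      conv_lhs => rw [← h5]
      exact relIndex_cj _ _ _
    omega
  have h6 : cl V (centralizer (Z : Set G)) ≤ centralizer ({x} : Set G) := by
    refine cl_le fun c hc => ?_
    intro y hy
    obtain ⟨v, hv, hvZ, hvB⟩ := key c hc
    have h1 := mem_centralizer_iff.1 hx.2 _ hvB
    have h2 : (c⁻¹ * x * c) * v = v * (c⁻¹ * x * c) := by
      calc (c⁻¹ * x * c) * v = c⁻¹ * (x * (c * v * c⁻¹)) * c := by group
        _ = c⁻¹ * ((c * v * c⁻¹) * x) * c := by rw [h1]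
        _ = v * (c⁻¹ * x * c) := by group
    have h3 := hC1 v hv hvZ _ (mul_mem (mul_mem (inv_mem hc) hx.1) hc) h2
    have h4 := mem_centralizer_iff.1 h3 _ (mem_cj.1 hy)
    refine mem_centralizer_iff.2 fun z hz => ?_
    rw [Set.mem_singleton_iff.1 hz]
    calc x * y = c * ((c⁻¹ * x * c) * (c⁻¹ * y * c)) * c⁻¹ := by group
      _ = c * ((c⁻¹ * y * c) * (c⁻¹ * x * c)) * c⁻¹ := by rw [← h4]
      _ = y * x := by group
  exact mem_centralizer_iff.2 fun w hw => (mem_centralizer_iff.1 (h6 hw) x rfl).symm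

/-- **(W), label-fullness** : `W ≤ ⟨V₁^C⟩ Z`, `Z` generated by `[S, V]` : `W ≤ ⟨V₁^C⟩`. -/
theorem full (h : Flag S Z V) {V₁ : Subgroup G} (hV₁ : V₁ ≤ V)
    (hM : cl V (centralizer (Z : Set G)) ≤ cl V₁ (centralizer (Z : Set G)) ⊔ Z)
    (hZ : ∀ K : Subgroup G, (∀ s ∈ S, ∀ v ∈ V, s * v * s⁻¹ * v⁻¹ ∈ K) → Z ≤ K) :
    cl V (centralizer (Z : Set G)) ≤ cl V₁ (centralizer (Z : Set G)) := by
  have hWW : cl V₁ (centralizer (Z : Set G)) ≤ cl V (centralizer (Z : Set G)) :=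
    cl_le fun c hc => (cj_mono c hV₁).trans (cj_le_cl hc)
  refine hM.trans (sup_le le_rfl (hZ _ fun s hs v hv => ?_))
  have hsC := h.SC hs
  let K : Subgroup G :=
    { carrier := {x | x ∈ cl V (centralizer (Z : Set G)) ∧ s * x * s⁻¹ * x⁻¹ ∈ cl V₁ (centralizer (Z : Set G))}
      mul_mem' := by
        rintro a b ⟨ha, ha'⟩ ⟨hb, hb'⟩
        refine ⟨mul_mem ha hb, ?_⟩
        have h1 := h.Wcomm a ha _ (hWW hb')
        have e1 : s * (a * b) * s⁻¹ * (a * b)⁻¹ = (s * a * s⁻¹ * a⁻¹) * ((a * (s * b * s⁻¹ * b⁻¹)) * a⁻¹) := by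
          group
        have e2 : s * b * s⁻¹ * b⁻¹ * a * a⁻¹ = s * b * s⁻¹ * b⁻¹ := by group
        rw [e1, h1, e2]
        exact mul_mem ha' hb'
      one_mem' := ⟨one_mem _, by simp⟩
      inv_mem' := by
        rintro a ⟨ha, ha'⟩
        have h1 : a⁻¹ = a := inv_eq_of_mul_eq_one_right (h.Wsq a ha)
        rw [h1]
        exact ⟨ha, ha'⟩ }
  have h1 : cl V₁ (centralizer (Z : Set G)) ⊔ Z ≤ K := by
    refine sup_le (fun x hx => ⟨hWW hx, ?_⟩) (fun z hz => ⟨le_cl _ _ (h.ZV hz), ?_⟩)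
    · exact mul_mem (cj_mem (normW Z V₁) hsC hx) (inv_mem hx)
    · have h2 := mem_centralizer_iff.1 hsC z hz
      have e1 : s * z * s⁻¹ * z⁻¹ = 1 := by
        rw [← h2]
        group
      rw [e1]
      exact one_mem _
  exact (h1 (hM (le_cl _ _ hv))).2

end Flag

end Cfsg.Agent.Omega.NO3b.ClosedPt
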